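import Cfsg.Agent.Helper17.E8hTC.Lemmas

set_option autoImplicit false
set_option linter.all false

noncomputable section

namespace Cfsg.Agent.Helper17.E8hTC

theorem F1 : act 2 n0 = n0 := d37_0 B0 
theorem F2 : act 3 n0 = n0 := d38_0 B1 
theorem F3 : act 4 n0 = n0 := d39_0 B2 
theorem F4 : act 5 n0 = n0 := d40_0 B3 
theorem F5 : act 6 n0 = n0 := d41_0 B4 
theorem F6 : act 7 n0 = n0 := d42_0 B5 
theorem F7 : act 8 n0 = n0 := d43_0 B6 
theorem F8 : act 0 n0 = n0 := d36_63 F1 F2 F3 F4 F5 F6 F7 F1 F2 F3 F4 F5 F6 F7 F1 F2 F3 F4 F5 F6 F7 F1 F2 F3 F4 F5 F6 F7 F1 F2 F3 F4 F5 F6 F7 F1 F2 F3 F4 F5 F6 F7 F1 F2 F3 F4 F5 F6 F7 F1 F2 F3 F4 F5 F6 F7 F1 F2 F3 F4 F5 F6 F7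
def n1 : Q := act 1 n0
theorem D1 : act 1 n0 = n1 := rfl
theorem F9 : act 3 n1 = n1 := d9_2 F2 D1 (iv D1)
theorem F10 : act 4 n1 = n1 := d10_2 F3 D1 (iv D1)
theorem F11 : act 5 n1 = n1 := d11_2 F4 D1 (iv D1)
theorem F12 : act 6 n1 = n1 := d12_2 F5 D1 (iv D1)
theorem F13 : act 7 n1 = n1 := d13_2 F6 D1 (iv D1)
theorem F14 : act 8 n1 = n1 := d14_2 F7 D1 (iv D1)
def n2 : Q := act 0 n1
theorem D2 : act 0 n1 = n2 := rfl
theorem F15 : act 1 n2 = n2 := d0_2 D1 D2 (iv D2) (iv D1) F8
theorem F16 : act 3 n2 = n2 := d2_2 F9 D2 (iv D2)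
theorem F17 : act 4 n2 = n2 := d3_2 F10 D2 (iv D2)
theorem F18 : act 5 n2 = n2 := d4_2 F11 D2 (iv D2)
theorem F19 : act 6 n2 = n2 := d5_2 F12 D2 (iv D2)
theorem F20 : act 7 n2 = n2 := d6_2 F13 D2 (iv D2)
theorem F21 : act 8 n2 = n2 := d7_2 F14 D2 (iv D2)
def n3 : Q := act 2 n1
theorem D3 : act 2 n1 = n3 := rfl
theorem F22 : act 1 n3 = n3 := d8_1 D3 (iv D3) (iv D1) F1 D1
theorem F23 : act 4 n3 = n3 := d16_2 F10 D3 (iv D3)
theorem F24 : act 5 n3 = n3 := d17_2 F11 D3 (iv D3)
theorem F25 : act 6 n3 = n3 := d18_2 F12 D3 (iv D3)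
theorem F26 : act 7 n3 = n3 := d19_2 F13 D3 (iv D3)
theorem F27 : act 8 n3 = n3 := d20_2 F14 D3 (iv D3)
def n4 : Q := act 2 n2
theorem D4 : act 2 n2 = n4 := rfl
theorem F28 : act 0 n4 = n3 := d1_1 D4 (iv D3) D2
theorem F29 : act 4 n4 = n4 := d16_2 F17 D4 (iv D4)
theorem F30 : act 5 n4 = n4 := d17_2 F18 D4 (iv D4)
theorem F31 : act 6 n4 = n4 := d18_2 F19 D4 (iv D4)
theorem F32 : act 7 n4 = n4 := d19_2 F20 D4 (iv D4)
theorem F33 : act 8 n4 = n4 := d20_2 F21 D4 (iv D4)
def n5 : Q := act 3 n3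
theorem D5 : act 3 n3 = n5 := rfl
theorem F34 : act 1 n5 = n5 := d9_1 D5 (iv D5) F22
theorem F35 : act 2 n5 = n5 := d15_1 D5 (iv D5) (iv D3) F9 D3
theorem F36 : act 5 n5 = n5 := d22_2 F24 D5 (iv D5)
theorem F37 : act 6 n5 = n5 := d23_2 F25 D5 (iv D5)
theorem F38 : act 7 n5 = n5 := d24_2 F26 D5 (iv D5)
theorem F39 : act 8 n5 = n5 := d25_2 F27 D5 (iv D5)
def n6 : Q := act 1 n4
theorem D6 : act 1 n4 = n6 := rfl
theorem F40 : act 0 n6 = n6 := d0_1 D6 (iv D6) F28 F22 (iv F28)
theorem F41 : act 2 n6 = n6 := d8_2 D4 D6 (iv D6) (iv D4) F15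
theorem F42 : act 4 n6 = n6 := d10_2 F29 D6 (iv D6)
theorem F43 : act 5 n6 = n6 := d11_2 F30 D6 (iv D6)
theorem F44 : act 6 n6 = n6 := d12_2 F31 D6 (iv D6)
theorem F45 : act 7 n6 = n6 := d13_2 F32 D6 (iv D6)
theorem F46 : act 8 n6 = n6 := d14_2 F33 D6 (iv D6)
def n7 : Q := act 3 n4
theorem D7 : act 3 n4 = n7 := rfl
theorem F47 : act 0 n7 = n5 := d2_1 D7 (iv D5) (iv F28)
theorem F48 : act 2 n7 = n7 := d15_1 D7 (iv D7) (iv D4) F16 D4
theorem F49 : act 5 n7 = n7 := d22_2 F30 D7 (iv D7)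
theorem F50 : act 6 n7 = n7 := d23_2 F31 D7 (iv D7)
theorem F51 : act 7 n7 = n7 := d24_2 F32 D7 (iv D7)
theorem F52 : act 8 n7 = n7 := d25_2 F33 D7 (iv D7)
def n8 : Q := act 4 n5
theorem D8 : act 4 n5 = n8 := rfl
theorem F53 : act 1 n8 = n8 := d10_1 D8 (iv D8) F34
theorem F54 : act 2 n8 = n8 := d16_1 D8 (iv D8) F35
theorem F55 : act 3 n8 = n8 := d21_1 D8 (iv D8) (iv D5) F23 D5
theorem F56 : act 6 n8 = n8 := d27_2 F37 D8 (iv D8)
theorem F57 : act 7 n8 = n8 := d28_2 F38 D8 (iv D8)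
theorem F58 : act 8 n8 = n8 := d29_2 F39 D8 (iv D8)
def n9 : Q := act 3 n6
theorem D9 : act 3 n6 = n9 := rfl
theorem F59 : act 0 n9 = n9 := d2_1 D9 (iv D9) F40
theorem F60 : act 1 n9 = n7 := d9_1 D9 (iv D7) D6
theorem F61 : act 5 n9 = n9 := d22_2 F43 D9 (iv D9)
theorem F62 : act 6 n9 = n9 := d23_2 F44 D9 (iv D9)
theorem F63 : act 7 n9 = n9 := d24_2 F45 D9 (iv D9)
theorem F64 : act 8 n9 = n9 := d25_2 F46 D9 (iv D9)
def n10 : Q := act 4 n7
theorem D10 : act 4 n7 = n10 := rfl
theorem F65 : act 0 n10 = n8 := d3_1 D10 (iv D8) (iv F47)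
theorem F66 : act 2 n10 = n10 := d16_1 D10 (iv D10) F48
theorem F67 : act 3 n10 = n10 := d21_1 D10 (iv D10) (iv D7) F29 D7
theorem F68 : act 6 n10 = n10 := d27_2 F50 D10 (iv D10)
theorem F69 : act 7 n10 = n10 := d28_2 F51 D10 (iv D10)
theorem F70 : act 8 n10 = n10 := d29_2 F52 D10 (iv D10)
def n11 : Q := act 5 n8
theorem D11 : act 5 n8 = n11 := rfl
theorem F71 : act 1 n11 = n11 := d11_1 D11 (iv D11) F53
theorem F72 : act 2 n11 = n11 := d17_1 D11 (iv D11) F54
theorem F73 : act 3 n11 = n11 := d22_1 D11 (iv D11) F55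
theorem F74 : act 4 n11 = n11 := d26_1 D11 (iv D11) (iv D8) F36 D8
theorem F75 : act 7 n11 = n11 := d31_2 F57 D11 (iv D11)
def n12 : Q := act 2 n9
theorem D12 : act 2 n9 = n12 := rfl
theorem F76 : act 0 n12 = n12 := d1_1 D12 (iv D12) F59
theorem F77 : act 1 n12 = n12 := d8_1 D12 (iv D12) F60 F48 (iv F60)
theorem F78 : act 3 n12 = n12 := d15_2 D9 D12 (iv D12) (iv D9) F41
theorem F79 : act 5 n12 = n12 := d17_2 F61 D12 (iv D12)
theorem F80 : act 6 n12 = n12 := d18_2 F62 D12 (iv D12)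
theorem F81 : act 7 n12 = n12 := d19_2 F63 D12 (iv D12)
theorem F82 : act 8 n12 = n12 := d20_2 F64 D12 (iv D12)
def n13 : Q := act 4 n9
theorem D13 : act 4 n9 = n13 := rfl
theorem F83 : act 0 n13 = n13 := d3_1 D13 (iv D13) F59
theorem F84 : act 1 n13 = n10 := d10_1 D13 (iv D10) (iv F60)
theorem F85 : act 3 n13 = n13 := d21_1 D13 (iv D13) (iv D9) F42 D9
theorem F86 : act 6 n13 = n13 := d27_2 F62 D13 (iv D13)
theorem F87 : act 7 n13 = n13 := d28_2 F63 D13 (iv D13)
theorem F88 : act 8 n13 = n13 := d29_2 F64 D13 (iv D13)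
def n14 : Q := act 5 n10
theorem D14 : act 5 n10 = n14 := rfl
theorem F89 : act 0 n14 = n11 := d4_1 D14 (iv D11) (iv F65)
theorem F90 : act 2 n14 = n14 := d17_1 D14 (iv D14) F66
theorem F91 : act 3 n14 = n14 := d22_1 D14 (iv D14) F67
theorem F92 : act 4 n14 = n14 := d26_1 D14 (iv D14) (iv D10) F49 D10
theorem F93 : act 7 n14 = n14 := d31_2 F69 D14 (iv D14)
def n15 : Q := act 6 n11
theorem D15 : act 6 n11 = n15 := rfl
theorem F94 : act 1 n15 = n15 := d12_1 D15 (iv D15) F71
theorem F95 : act 2 n15 = n15 := d18_1 D15 (iv D15) F72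
theorem F96 : act 3 n15 = n15 := d23_1 D15 (iv D15) F73
theorem F97 : act 4 n15 = n15 := d27_1 D15 (iv D15) F74
theorem F98 : act 5 n15 = n15 := d30_1 D15 (iv D15) (iv D11) F56 D11
def n16 : Q := act 8 n11
theorem D16 : act 8 n11 = n16 := rfl
theorem F99 : act 1 n16 = n16 := d14_1 D16 (iv D16) F71
theorem F100 : act 2 n16 = n16 := d20_1 D16 (iv D16) F72
theorem F101 : act 3 n16 = n16 := d25_1 D16 (iv D16) F73
theorem F102 : act 4 n16 = n16 := d29_1 D16 (iv D16) F74
theorem F103 : act 5 n16 = n16 := d32_1 D16 (iv D16) (iv D11) F58 D11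
theorem F104 : act 7 n16 = n16 := d35_1 D16 (iv D16) F75
def n17 : Q := act 4 n12
theorem D17 : act 4 n12 = n17 := rfl
theorem F105 : act 0 n17 = n17 := d3_1 D17 (iv D17) F76
theorem F106 : act 1 n17 = n17 := d10_1 D17 (iv D17) F77
theorem F107 : act 2 n17 = n13 := d16_1 D17 (iv D13) D12
theorem F108 : act 6 n17 = n17 := d27_2 F80 D17 (iv D17)
theorem F109 : act 7 n17 = n17 := d28_2 F81 D17 (iv D17)
theorem F110 : act 8 n17 = n17 := d29_2 F82 D17 (iv D17)
def n18 : Q := act 5 n13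
theorem D18 : act 5 n13 = n18 := rfl
theorem F111 : act 0 n18 = n18 := d4_1 D18 (iv D18) F83
theorem F112 : act 1 n18 = n14 := d11_1 D18 (iv D14) (iv F84)
theorem F113 : act 3 n18 = n18 := d22_1 D18 (iv D18) F85
theorem F114 : act 4 n18 = n18 := d26_1 D18 (iv D18) (iv D13) F61 D13
theorem F115 : act 7 n18 = n18 := d31_2 F87 D18 (iv D18)
def n19 : Q := act 6 n14
theorem D19 : act 6 n14 = n19 := rfl
theorem F116 : act 0 n19 = n15 := d5_1 D19 (iv D15) (iv F89)
theorem F117 : act 2 n19 = n19 := d18_1 D19 (iv D19) F90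
theorem F118 : act 3 n19 = n19 := d23_1 D19 (iv D19) F91
theorem F119 : act 4 n19 = n19 := d27_1 D19 (iv D19) F92
theorem F120 : act 5 n19 = n19 := d30_1 D19 (iv D19) (iv D14) F68 D14
def n20 : Q := act 8 n14
theorem D20 : act 8 n14 = n20 := rfl
theorem F121 : act 0 n20 = n16 := d7_1 D20 (iv D16) (iv F89)
theorem F122 : act 2 n20 = n20 := d20_1 D20 (iv D20) F90
theorem F123 : act 3 n20 = n20 := d25_1 D20 (iv D20) F91
theorem F124 : act 4 n20 = n20 := d29_1 D20 (iv D20) F92
theorem F125 : act 5 n20 = n20 := d32_1 D20 (iv D20) (iv D14) F70 D14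
theorem F126 : act 7 n20 = n20 := d35_1 D20 (iv D20) F93
def n21 : Q := act 7 n15
theorem D21 : act 7 n15 = n21 := rfl
theorem F127 : act 1 n21 = n21 := d13_1 D21 (iv D21) F94
theorem F128 : act 2 n21 = n21 := d19_1 D21 (iv D21) F95
theorem F129 : act 3 n21 = n21 := d24_1 D21 (iv D21) F96
theorem F130 : act 4 n21 = n21 := d28_1 D21 (iv D21) F97
theorem F131 : act 5 n21 = n21 := d31_1 D21 (iv D21) F98
theorem F132 : act 6 n21 = n21 := d33_1 D21 (iv D21) (iv D15) F75 D15
def n22 : Q := act 8 n15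
theorem D22 : act 8 n15 = n22 := rfl
theorem F133 : act 1 n22 = n22 := d14_1 D22 (iv D22) F94
theorem F134 : act 2 n22 = n22 := d20_1 D22 (iv D22) F95
theorem F135 : act 3 n22 = n22 := d25_1 D22 (iv D22) F96
theorem F136 : act 4 n22 = n22 := d29_1 D22 (iv D22) F97
theorem F137 : act 6 n22 = n16 := d34_1 D22 (iv D16) D15
def n23 : Q := act 3 n17
theorem D23 : act 3 n17 = n23 := rfl
theorem F138 : act 0 n23 = n23 := d2_1 D23 (iv D23) F105
theorem F139 : act 1 n23 = n23 := d9_1 D23 (iv D23) F106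
theorem F140 : act 2 n23 = n23 := d15_1 D23 (iv D23) F107 F85 (iv F107)
theorem F141 : act 4 n23 = n23 := d21_2 D17 D23 (iv D23) (iv D17) F78
theorem F142 : act 6 n23 = n23 := d23_2 F108 D23 (iv D23)
theorem F143 : act 7 n23 = n23 := d24_2 F109 D23 (iv D23)
theorem F144 : act 8 n23 = n23 := d25_2 F110 D23 (iv D23)
def n24 : Q := act 5 n17
theorem D24 : act 5 n17 = n24 := rfl
theorem F145 : act 0 n24 = n24 := d4_1 D24 (iv D24) F105
theorem F146 : act 1 n24 = n24 := d11_1 D24 (iv D24) F106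
theorem F147 : act 2 n24 = n18 := d17_1 D24 (iv D18) (iv F107)
theorem F148 : act 4 n24 = n24 := d26_1 D24 (iv D24) (iv D17) F79 D17
theorem F149 : act 7 n24 = n24 := d31_2 F109 D24 (iv D24)
def n25 : Q := act 6 n18
theorem D25 : act 6 n18 = n25 := rfl
theorem F150 : act 0 n25 = n25 := d5_1 D25 (iv D25) F111
theorem F151 : act 1 n25 = n19 := d12_1 D25 (iv D19) (iv F112)
theorem F152 : act 3 n25 = n25 := d23_1 D25 (iv D25) F113
theorem F153 : act 4 n25 = n25 := d27_1 D25 (iv D25) F114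
theorem F154 : act 5 n25 = n25 := d30_1 D25 (iv D25) (iv D18) F86 D18
def n26 : Q := act 8 n18
theorem D26 : act 8 n18 = n26 := rfl
theorem F155 : act 0 n26 = n26 := d7_1 D26 (iv D26) F111
theorem F156 : act 1 n26 = n20 := d14_1 D26 (iv D20) (iv F112)
theorem F157 : act 3 n26 = n26 := d25_1 D26 (iv D26) F113
theorem F158 : act 4 n26 = n26 := d29_1 D26 (iv D26) F114
theorem F159 : act 5 n26 = n26 := d32_1 D26 (iv D26) (iv D18) F88 D18
theorem F160 : act 7 n26 = n26 := d35_1 D26 (iv D26) F115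
def n27 : Q := act 7 n19
theorem D27 : act 7 n19 = n27 := rfl
theorem F161 : act 0 n27 = n21 := d6_1 D27 (iv D21) (iv F116)
theorem F162 : act 2 n27 = n27 := d19_1 D27 (iv D27) F117
theorem F163 : act 3 n27 = n27 := d24_1 D27 (iv D27) F118
theorem F164 : act 4 n27 = n27 := d28_1 D27 (iv D27) F119
theorem F165 : act 5 n27 = n27 := d31_1 D27 (iv D27) F120
theorem F166 : act 6 n27 = n27 := d33_1 D27 (iv D27) (iv D19) F93 D19
def n28 : Q := act 8 n19
theorem D28 : act 8 n19 = n28 := rfl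
theorem F167 : act 0 n28 = n22 := d7_1 D28 (iv D22) (iv F116)
theorem F168 : act 2 n28 = n28 := d20_1 D28 (iv D28) F117
theorem F169 : act 3 n28 = n28 := d25_1 D28 (iv D28) F118
theorem F170 : act 4 n28 = n28 := d29_1 D28 (iv D28) F119
theorem F171 : act 6 n28 = n20 := d34_1 D28 (iv D20) D19
def n29 : Q := act 8 n21
theorem D29 : act 8 n21 = n29 := rfl
theorem F172 : act 1 n29 = n29 := d14_1 D29 (iv D29) F127
theorem F173 : act 2 n29 = n29 := d20_1 D29 (iv D29) F128
theorem F174 : act 3 n29 = n29 := d25_1 D29 (iv D29) F129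
theorem F175 : act 4 n29 = n29 := d29_1 D29 (iv D29) F130
theorem F176 : act 6 n29 = n29 := d34_1 D29 (iv D29) F132
theorem F177 : act 7 n29 = n22 := d35_1 D29 (iv D22) D21
def n30 : Q := act 5 n22
theorem D30 : act 5 n22 = n30 := rfl
theorem F178 : act 1 n30 = n30 := d11_1 D30 (iv D30) F133
theorem F179 : act 2 n30 = n30 := d17_1 D30 (iv D30) F134
theorem F180 : act 3 n30 = n30 := d22_1 D30 (iv D30) F135
theorem F181 : act 6 n30 = n30 := d30_2 (iv F137) D30 (iv D30) F137 F103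
theorem F182 : act 8 n30 = n30 := d32_2 D22 D30 (iv D30) (iv D22) F98
def n31 : Q := act 5 n23
theorem D31 : act 5 n23 = n31 := rfl
theorem F183 : act 0 n31 = n31 := d4_1 D31 (iv D31) F138
theorem F184 : act 1 n31 = n31 := d11_1 D31 (iv D31) F139
theorem F185 : act 2 n31 = n31 := d17_1 D31 (iv D31) F140
theorem F186 : act 3 n31 = n24 := d22_1 D31 (iv D24) D23
theorem F187 : act 7 n31 = n31 := d31_2 F143 D31 (iv D31)
def n32 : Q := act 6 n24
theorem D32 : act 6 n24 = n32 := rfl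
theorem F188 : act 0 n32 = n32 := d5_1 D32 (iv D32) F145
theorem F189 : act 1 n32 = n32 := d12_1 D32 (iv D32) F146
theorem F190 : act 2 n32 = n25 := d18_1 D32 (iv D25) (iv F147)
theorem F191 : act 4 n32 = n32 := d27_1 D32 (iv D32) F148
theorem F192 : act 5 n32 = n32 := d30_1 D32 (iv D32) (iv D24) F108 D24
def n33 : Q := act 8 n24
theorem D33 : act 8 n24 = n33 := rfl
theorem F193 : act 0 n33 = n33 := d7_1 D33 (iv D33) F145
theorem F194 : act 1 n33 = n33 := d14_1 D33 (iv D33) F146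
theorem F195 : act 2 n33 = n26 := d20_1 D33 (iv D26) (iv F147)
theorem F196 : act 4 n33 = n33 := d29_1 D33 (iv D33) F148
theorem F197 : act 5 n33 = n33 := d32_1 D33 (iv D33) (iv D24) F110 D24
theorem F198 : act 7 n33 = n33 := d35_1 D33 (iv D33) F149
def n34 : Q := act 7 n25
theorem D34 : act 7 n25 = n34 := rfl
theorem F199 : act 0 n34 = n34 := d6_1 D34 (iv D34) F150
theorem F200 : act 1 n34 = n27 := d13_1 D34 (iv D27) (iv F151)
theorem F201 : act 3 n34 = n34 := d24_1 D34 (iv D34) F152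
theorem F202 : act 4 n34 = n34 := d28_1 D34 (iv D34) F153
theorem F203 : act 5 n34 = n34 := d31_1 D34 (iv D34) F154
theorem F204 : act 6 n34 = n34 := d33_1 D34 (iv D34) (iv D25) F115 D25
def n35 : Q := act 8 n25
theorem D35 : act 8 n25 = n35 := rfl
theorem F205 : act 0 n35 = n35 := d7_1 D35 (iv D35) F150
theorem F206 : act 1 n35 = n28 := d14_1 D35 (iv D28) (iv F151)
theorem F207 : act 3 n35 = n35 := d25_1 D35 (iv D35) F152
theorem F208 : act 4 n35 = n35 := d29_1 D35 (iv D35) F153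
theorem F209 : act 6 n35 = n26 := d34_1 D35 (iv D26) D25
def n36 : Q := act 8 n27
theorem D36 : act 8 n27 = n36 := rfl
theorem F210 : act 0 n36 = n29 := d7_1 D36 (iv D29) (iv F161)
theorem F211 : act 2 n36 = n36 := d20_1 D36 (iv D36) F162
theorem F212 : act 3 n36 = n36 := d25_1 D36 (iv D36) F163
theorem F213 : act 4 n36 = n36 := d29_1 D36 (iv D36) F164
theorem F214 : act 6 n36 = n36 := d34_1 D36 (iv D36) F166
theorem F215 : act 7 n36 = n28 := d35_1 D36 (iv D28) D27
def n37 : Q := act 5 n28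
theorem D37 : act 5 n28 = n37 := rfl
theorem F216 : act 0 n37 = n30 := d4_1 D37 (iv D30) (iv F167)
theorem F217 : act 2 n37 = n37 := d17_1 D37 (iv D37) F168
theorem F218 : act 3 n37 = n37 := d22_1 D37 (iv D37) F169
theorem F219 : act 6 n37 = n37 := d30_2 (iv F171) D37 (iv D37) F171 F125
theorem F220 : act 8 n37 = n37 := d32_2 D28 D37 (iv D37) (iv D28) F120
def n38 : Q := act 5 n29
theorem D38 : act 5 n29 = n38 := rfl
theorem F221 : act 1 n38 = n38 := d11_1 D38 (iv D38) F172
theorem F222 : act 2 n38 = n38 := d17_1 D38 (iv D38) F173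
theorem F223 : act 3 n38 = n38 := d22_1 D38 (iv D38) F174
theorem F224 : act 7 n38 = n30 := d31_2 (iv F177) D38 (iv D30)
theorem F225 : act 8 n38 = n38 := d32_2 D29 D38 (iv D38) (iv D29) F131
def n39 : Q := act 4 n30
theorem D39 : act 4 n30 = n39 := rfl
theorem F226 : act 1 n39 = n39 := d10_1 D39 (iv D39) F178
theorem F227 : act 2 n39 = n39 := d16_1 D39 (iv D39) F179
theorem F228 : act 5 n39 = n39 := d26_2 D30 D39 (iv D39) (iv D30) F136
theorem F229 : act 6 n39 = n39 := d27_2 F181 D39 (iv D39)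
theorem F230 : act 8 n39 = n39 := d29_2 F182 D39 (iv D39)
def n40 : Q := act 4 n31
theorem D40 : act 4 n31 = n40 := rfl
theorem F231 : act 0 n40 = n40 := d3_1 D40 (iv D40) F183
theorem F232 : act 1 n40 = n40 := d10_1 D40 (iv D40) F184
theorem F233 : act 2 n40 = n40 := d16_1 D40 (iv D40) F185
theorem F234 : act 3 n40 = n40 := d21_1 D40 (iv D40) F186 F148 (iv F186)
theorem F235 : act 5 n40 = n40 := d26_2 D31 D40 (iv D40) (iv D31) F141
theorem F236 : act 7 n40 = n40 := d28_2 F187 D40 (iv D40)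
def n41 : Q := act 6 n31
theorem D41 : act 6 n31 = n41 := rfl
theorem F237 : act 0 n41 = n41 := d5_1 D41 (iv D41) F183
theorem F238 : act 1 n41 = n41 := d12_1 D41 (iv D41) F184
theorem F239 : act 2 n41 = n41 := d18_1 D41 (iv D41) F185
theorem F240 : act 3 n41 = n32 := d23_1 D41 (iv D32) (iv F186)
theorem F241 : act 5 n41 = n41 := d30_1 D41 (iv D41) (iv D31) F142 D31
def n42 : Q := act 8 n31
theorem D42 : act 8 n31 = n42 := rfl
theorem F242 : act 0 n42 = n42 := d7_1 D42 (iv D42) F183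
theorem F243 : act 1 n42 = n42 := d14_1 D42 (iv D42) F184
theorem F244 : act 2 n42 = n42 := d20_1 D42 (iv D42) F185
theorem F245 : act 3 n42 = n33 := d25_1 D42 (iv D33) (iv F186)
theorem F246 : act 5 n42 = n42 := d32_1 D42 (iv D42) (iv D31) F144 D31
theorem F247 : act 7 n42 = n42 := d35_1 D42 (iv D42) F187
def n43 : Q := act 7 n32
theorem D43 : act 7 n32 = n43 := rfl
theorem F248 : act 0 n43 = n43 := d6_1 D43 (iv D43) F188
theorem F249 : act 1 n43 = n43 := d13_1 D43 (iv D43) F189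
theorem F250 : act 2 n43 = n34 := d19_1 D43 (iv D34) (iv F190)
theorem F251 : act 4 n43 = n43 := d28_1 D43 (iv D43) F191
theorem F252 : act 5 n43 = n43 := d31_1 D43 (iv D43) F192
theorem F253 : act 6 n43 = n43 := d33_1 D43 (iv D43) (iv D32) F149 D32
def n44 : Q := act 8 n32
theorem D44 : act 8 n32 = n44 := rfl
theorem F254 : act 0 n44 = n44 := d7_1 D44 (iv D44) F188
theorem F255 : act 1 n44 = n44 := d14_1 D44 (iv D44) F189
theorem F256 : act 2 n44 = n35 := d20_1 D44 (iv D35) (iv F190)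
theorem F257 : act 4 n44 = n44 := d29_1 D44 (iv D44) F191
theorem F258 : act 6 n44 = n33 := d34_1 D44 (iv D33) D32
def n45 : Q := act 8 n34
theorem D45 : act 8 n34 = n45 := rfl
theorem F259 : act 0 n45 = n45 := d7_1 D45 (iv D45) F199
theorem F260 : act 1 n45 = n36 := d14_1 D45 (iv D36) (iv F200)
theorem F261 : act 3 n45 = n45 := d25_1 D45 (iv D45) F201
theorem F262 : act 4 n45 = n45 := d29_1 D45 (iv D45) F202
theorem F263 : act 6 n45 = n45 := d34_1 D45 (iv D45) F204
theorem F264 : act 7 n45 = n35 := d35_1 D45 (iv D35) D34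
def n46 : Q := act 5 n35
theorem D46 : act 5 n35 = n46 := rfl
theorem F265 : act 0 n46 = n46 := d4_1 D46 (iv D46) F205
theorem F266 : act 1 n46 = n37 := d11_1 D46 (iv D37) (iv F206)
theorem F267 : act 3 n46 = n46 := d22_1 D46 (iv D46) F207
theorem F268 : act 6 n46 = n46 := d30_2 (iv F209) D46 (iv D46) F209 F159
theorem F269 : act 8 n46 = n46 := d32_2 D35 D46 (iv D46) (iv D35) F154
def n47 : Q := act 5 n36
theorem D47 : act 5 n36 = n47 := rfl
theorem F270 : act 0 n47 = n38 := d4_1 D47 (iv D38) (iv F210)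
theorem F271 : act 2 n47 = n47 := d17_1 D47 (iv D47) F211
theorem F272 : act 3 n47 = n47 := d22_1 D47 (iv D47) F212
theorem F273 : act 7 n47 = n37 := d31_2 (iv F215) D47 (iv D37)
theorem F274 : act 8 n47 = n47 := d32_2 D36 D47 (iv D47) (iv D36) F165
def n48 : Q := act 4 n37
theorem D48 : act 4 n37 = n48 := rfl
theorem F275 : act 0 n48 = n39 := d3_1 D48 (iv D39) (iv F216)
theorem F276 : act 2 n48 = n48 := d16_1 D48 (iv D48) F217
theorem F277 : act 5 n48 = n48 := d26_2 D37 D48 (iv D48) (iv D37) F170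
theorem F278 : act 6 n48 = n48 := d27_2 F219 D48 (iv D48)
theorem F279 : act 8 n48 = n48 := d29_2 F220 D48 (iv D48)
def n49 : Q := act 4 n38
theorem D49 : act 4 n38 = n49 := rfl
theorem F280 : act 1 n49 = n49 := d10_1 D49 (iv D49) F221
theorem F281 : act 2 n49 = n49 := d16_1 D49 (iv D49) F222
theorem F282 : act 5 n49 = n49 := d26_2 D38 D49 (iv D49) (iv D38) F175
theorem F283 : act 7 n49 = n39 := d28_2 (iv F224) D49 (iv D39)
theorem F284 : act 8 n49 = n49 := d29_2 F225 D49 (iv D49)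
def n50 : Q := act 6 n38
theorem D50 : act 6 n38 = n50 := rfl
theorem F285 : act 1 n50 = n50 := d12_1 D50 (iv D50) F221
theorem F286 : act 2 n50 = n50 := d18_1 D50 (iv D50) F222
theorem F287 : act 3 n50 = n50 := d23_1 D50 (iv D50) F223
theorem F288 : act 5 n50 = n50 := d30_1 D50 (iv D50) (iv D38) F176 D38
theorem F289 : act 7 n50 = n50 := d33_2 (iv F224) D50 (iv D50) F224 F181
theorem F290 : act 8 n50 = n50 := d34_2 F225 D50 (iv D50)
def n51 : Q := act 3 n39
theorem D51 : act 3 n39 = n51 := rfl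
theorem F291 : act 1 n51 = n51 := d9_1 D51 (iv D51) F226
theorem F292 : act 4 n51 = n51 := d21_2 D39 D51 (iv D51) (iv D39) F180
theorem F293 : act 5 n51 = n51 := d22_2 F228 D51 (iv D51)
theorem F294 : act 6 n51 = n51 := d23_2 F229 D51 (iv D51)
theorem F295 : act 8 n51 = n51 := d25_2 F230 D51 (iv D51)
def n52 : Q := act 6 n40
theorem D52 : act 6 n40 = n52 := rfl
theorem F296 : act 0 n52 = n52 := d5_1 D52 (iv D52) F231
theorem F297 : act 1 n52 = n52 := d12_1 D52 (iv D52) F232
theorem F298 : act 2 n52 = n52 := d18_1 D52 (iv D52) F233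
theorem F299 : act 3 n52 = n52 := d23_1 D52 (iv D52) F234
theorem F300 : act 4 n52 = n41 := d27_1 D52 (iv D41) D40
def n53 : Q := act 8 n40
theorem D53 : act 8 n40 = n53 := rfl
theorem F301 : act 0 n53 = n53 := d7_1 D53 (iv D53) F231
theorem F302 : act 1 n53 = n53 := d14_1 D53 (iv D53) F232
theorem F303 : act 2 n53 = n53 := d20_1 D53 (iv D53) F233
theorem F304 : act 3 n53 = n53 := d25_1 D53 (iv D53) F234
theorem F305 : act 4 n53 = n42 := d29_1 D53 (iv D42) D40
theorem F306 : act 7 n53 = n53 := d35_1 D53 (iv D53) F236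
def n54 : Q := act 7 n41
theorem D54 : act 7 n41 = n54 := rfl
theorem F307 : act 0 n54 = n54 := d6_1 D54 (iv D54) F237
theorem F308 : act 1 n54 = n54 := d13_1 D54 (iv D54) F238
theorem F309 : act 2 n54 = n54 := d19_1 D54 (iv D54) F239
theorem F310 : act 3 n54 = n43 := d24_1 D54 (iv D43) (iv F240)
theorem F311 : act 5 n54 = n54 := d31_1 D54 (iv D54) F241
theorem F312 : act 6 n54 = n54 := d33_1 D54 (iv D54) (iv D41) F187 D41
def n55 : Q := act 8 n41
theorem D55 : act 8 n41 = n55 := rfl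
theorem F313 : act 0 n55 = n55 := d7_1 D55 (iv D55) F237
theorem F314 : act 1 n55 = n55 := d14_1 D55 (iv D55) F238
theorem F315 : act 2 n55 = n55 := d20_1 D55 (iv D55) F239
theorem F316 : act 3 n55 = n44 := d25_1 D55 (iv D44) (iv F240)
theorem F317 : act 6 n55 = n42 := d34_1 D55 (iv D42) D41
def n56 : Q := act 8 n43
theorem D56 : act 8 n43 = n56 := rfl
theorem F318 : act 0 n56 = n56 := d7_1 D56 (iv D56) F248
theorem F319 : act 1 n56 = n56 := d14_1 D56 (iv D56) F249
theorem F320 : act 2 n56 = n45 := d20_1 D56 (iv D45) (iv F250)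
theorem F321 : act 4 n56 = n56 := d29_1 D56 (iv D56) F251
theorem F322 : act 6 n56 = n56 := d34_1 D56 (iv D56) F253
theorem F323 : act 7 n56 = n44 := d35_1 D56 (iv D44) D43
def n57 : Q := act 5 n44
theorem D57 : act 5 n44 = n57 := rfl
theorem F324 : act 0 n57 = n57 := d4_1 D57 (iv D57) F254
theorem F325 : act 1 n57 = n57 := d11_1 D57 (iv D57) F255
theorem F326 : act 2 n57 = n46 := d17_1 D57 (iv D46) (iv F256)
theorem F327 : act 6 n57 = n57 := d30_2 (iv F258) D57 (iv D57) F258 F197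
theorem F328 : act 8 n57 = n57 := d32_2 D44 D57 (iv D57) (iv D44) F192
def n58 : Q := act 5 n45
theorem D58 : act 5 n45 = n58 := rfl
theorem F329 : act 0 n58 = n58 := d4_1 D58 (iv D58) F259
theorem F330 : act 1 n58 = n47 := d11_1 D58 (iv D47) (iv F260)
theorem F331 : act 3 n58 = n58 := d22_1 D58 (iv D58) F261
theorem F332 : act 7 n58 = n46 := d31_2 (iv F264) D58 (iv D46)
theorem F333 : act 8 n58 = n58 := d32_2 D45 D58 (iv D58) (iv D45) F203
def n59 : Q := act 4 n46
theorem D59 : act 4 n46 = n59 := rfl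
theorem F334 : act 0 n59 = n59 := d3_1 D59 (iv D59) F265
theorem F335 : act 1 n59 = n48 := d10_1 D59 (iv D48) (iv F266)
theorem F336 : act 5 n59 = n59 := d26_2 D46 D59 (iv D59) (iv D46) F208
theorem F337 : act 6 n59 = n59 := d27_2 F268 D59 (iv D59)
theorem F338 : act 8 n59 = n59 := d29_2 F269 D59 (iv D59)
def n60 : Q := act 4 n47
theorem D60 : act 4 n47 = n60 := rfl
theorem F339 : act 0 n60 = n49 := d3_1 D60 (iv D49) (iv F270)
theorem F340 : act 2 n60 = n60 := d16_1 D60 (iv D60) F271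
theorem F341 : act 5 n60 = n60 := d26_2 D47 D60 (iv D60) (iv D47) F213
theorem F342 : act 7 n60 = n48 := d28_2 (iv F273) D60 (iv D48)
theorem F343 : act 8 n60 = n60 := d29_2 F274 D60 (iv D60)
def n61 : Q := act 6 n47
theorem D61 : act 6 n47 = n61 := rfl
theorem F344 : act 0 n61 = n50 := d5_1 D61 (iv D50) (iv F270)
theorem F345 : act 2 n61 = n61 := d18_1 D61 (iv D61) F271
theorem F346 : act 3 n61 = n61 := d23_1 D61 (iv D61) F272
theorem F347 : act 5 n61 = n61 := d30_1 D61 (iv D61) (iv D47) F214 D47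
theorem F348 : act 7 n61 = n61 := d33_2 (iv F273) D61 (iv D61) F273 F219
theorem F349 : act 8 n61 = n61 := d34_2 F274 D61 (iv D61)
def n62 : Q := act 3 n48
theorem D62 : act 3 n48 = n62 := rfl
theorem F350 : act 0 n62 = n51 := d2_1 D62 (iv D51) (iv F275)
theorem F351 : act 4 n62 = n62 := d21_2 D48 D62 (iv D62) (iv D48) F218
theorem F352 : act 5 n62 = n62 := d22_2 F277 D62 (iv D62)
theorem F353 : act 6 n62 = n62 := d23_2 F278 D62 (iv D62)
theorem F354 : act 8 n62 = n62 := d25_2 F279 D62 (iv D62)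
def n63 : Q := act 3 n49
theorem D63 : act 3 n49 = n63 := rfl
theorem F355 : act 1 n63 = n63 := d9_1 D63 (iv D63) F280
theorem F356 : act 4 n63 = n63 := d21_2 D49 D63 (iv D63) (iv D49) F223
theorem F357 : act 5 n63 = n63 := d22_2 F282 D63 (iv D63)
theorem F358 : act 7 n63 = n51 := d24_2 (iv F283) D63 (iv D51)
theorem F359 : act 8 n63 = n63 := d25_2 F284 D63 (iv D63)
def n64 : Q := act 6 n49
theorem D64 : act 6 n49 = n64 := rfl
theorem F360 : act 1 n64 = n64 := d12_1 D64 (iv D64) F280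
theorem F361 : act 2 n64 = n64 := d18_1 D64 (iv D64) F281
theorem F362 : act 4 n64 = n50 := d27_1 D64 (iv D50) D49
theorem F363 : act 7 n64 = n64 := d33_2 (iv F283) D64 (iv D64) F283 F229
theorem F364 : act 8 n64 = n64 := d34_2 F284 D64 (iv D64)
def n65 : Q := act 2 n51
theorem D65 : act 2 n51 = n65 := rfl
theorem F365 : act 3 n65 = n65 := d15_2 D51 D65 (iv D65) (iv D51) F227
theorem F366 : act 4 n65 = n65 := d16_2 F292 D65 (iv D65)
theorem F367 : act 5 n65 = n65 := d17_2 F293 D65 (iv D65)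
theorem F368 : act 6 n65 = n65 := d18_2 F294 D65 (iv D65)
theorem F369 : act 8 n65 = n65 := d20_2 F295 D65 (iv D65)
def n66 : Q := act 5 n52
theorem D66 : act 5 n52 = n66 := rfl
theorem F370 : act 0 n66 = n66 := d4_1 D66 (iv D66) F296
theorem F371 : act 1 n66 = n66 := d11_1 D66 (iv D66) F297
theorem F372 : act 2 n66 = n66 := d17_1 D66 (iv D66) F298
theorem F373 : act 3 n66 = n66 := d22_1 D66 (iv D66) F299
theorem F374 : act 4 n66 = n66 := d26_1 D66 (iv D66) F300 F241 (iv F300)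
theorem F375 : act 6 n66 = n66 := d30_2 D52 D66 (iv D66) (iv D52) F235
def n67 : Q := act 7 n52
theorem D67 : act 7 n52 = n67 := rfl
theorem F376 : act 0 n67 = n67 := d6_1 D67 (iv D67) F296
theorem F377 : act 1 n67 = n67 := d13_1 D67 (iv D67) F297
theorem F378 : act 2 n67 = n67 := d19_1 D67 (iv D67) F298
theorem F379 : act 3 n67 = n67 := d24_1 D67 (iv D67) F299
theorem F380 : act 4 n67 = n54 := d28_1 D67 (iv D54) (iv F300)
theorem F381 : act 6 n67 = n67 := d33_1 D67 (iv D67) (iv D52) F236 D52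
def n68 : Q := act 8 n52
theorem D68 : act 8 n52 = n68 := rfl
theorem F382 : act 0 n68 = n68 := d7_1 D68 (iv D68) F296
theorem F383 : act 1 n68 = n68 := d14_1 D68 (iv D68) F297
theorem F384 : act 2 n68 = n68 := d20_1 D68 (iv D68) F298
theorem F385 : act 3 n68 = n68 := d25_1 D68 (iv D68) F299
theorem F386 : act 4 n68 = n55 := d29_1 D68 (iv D55) (iv F300)
theorem F387 : act 6 n68 = n53 := d34_1 D68 (iv D53) D52
def n69 : Q := act 5 n53
theorem D69 : act 5 n53 = n69 := rfl
theorem F388 : act 0 n69 = n69 := d4_1 D69 (iv D69) F301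
theorem F389 : act 1 n69 = n69 := d11_1 D69 (iv D69) F302
theorem F390 : act 2 n69 = n69 := d17_1 D69 (iv D69) F303
theorem F391 : act 3 n69 = n69 := d22_1 D69 (iv D69) F304
theorem F392 : act 4 n69 = n69 := d26_1 D69 (iv D69) F305 F246 (iv F305)
theorem F393 : act 7 n69 = n69 := d31_2 F306 D69 (iv D69)
theorem F394 : act 8 n69 = n69 := d32_2 D53 D69 (iv D69) (iv D53) F235
def n70 : Q := act 8 n54
theorem D70 : act 8 n54 = n70 := rfl
theorem F395 : act 0 n70 = n70 := d7_1 D70 (iv D70) F307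
theorem F396 : act 1 n70 = n70 := d14_1 D70 (iv D70) F308
theorem F397 : act 2 n70 = n70 := d20_1 D70 (iv D70) F309
theorem F398 : act 3 n70 = n56 := d25_1 D70 (iv D56) (iv F310)
theorem F399 : act 6 n70 = n70 := d34_1 D70 (iv D70) F312
theorem F400 : act 7 n70 = n55 := d35_1 D70 (iv D55) D54
def n71 : Q := act 5 n55
theorem D71 : act 5 n55 = n71 := rfl
theorem F401 : act 0 n71 = n71 := d4_1 D71 (iv D71) F313
theorem F402 : act 1 n71 = n71 := d11_1 D71 (iv D71) F314
theorem F403 : act 2 n71 = n71 := d17_1 D71 (iv D71) F315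
theorem F404 : act 3 n71 = n57 := d22_1 D71 (iv D57) (iv F316)
theorem F405 : act 6 n71 = n71 := d30_2 (iv F317) D71 (iv D71) F317 F246
theorem F406 : act 8 n71 = n71 := d32_2 D55 D71 (iv D71) (iv D55) F241
def n72 : Q := act 5 n56
theorem D72 : act 5 n56 = n72 := rfl
theorem F407 : act 0 n72 = n72 := d4_1 D72 (iv D72) F318
theorem F408 : act 1 n72 = n72 := d11_1 D72 (iv D72) F319
theorem F409 : act 2 n72 = n58 := d17_1 D72 (iv D58) (iv F320)
theorem F410 : act 7 n72 = n57 := d31_2 (iv F323) D72 (iv D57)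
theorem F411 : act 8 n72 = n72 := d32_2 D56 D72 (iv D72) (iv D56) F252
def n73 : Q := act 4 n57
theorem D73 : act 4 n57 = n73 := rfl
theorem F412 : act 0 n73 = n73 := d3_1 D73 (iv D73) F324
theorem F413 : act 1 n73 = n73 := d10_1 D73 (iv D73) F325
theorem F414 : act 2 n73 = n59 := d16_1 D73 (iv D59) (iv F326)
theorem F415 : act 5 n73 = n73 := d26_2 D57 D73 (iv D73) (iv D57) F257
theorem F416 : act 6 n73 = n73 := d27_2 F327 D73 (iv D73)
theorem F417 : act 8 n73 = n73 := d29_2 F328 D73 (iv D73)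
def n74 : Q := act 4 n58
theorem D74 : act 4 n58 = n74 := rfl
theorem F418 : act 0 n74 = n74 := d3_1 D74 (iv D74) F329
theorem F419 : act 1 n74 = n60 := d10_1 D74 (iv D60) (iv F330)
theorem F420 : act 5 n74 = n74 := d26_2 D58 D74 (iv D74) (iv D58) F262
theorem F421 : act 7 n74 = n59 := d28_2 (iv F332) D74 (iv D59)
theorem F422 : act 8 n74 = n74 := d29_2 F333 D74 (iv D74)
def n75 : Q := act 6 n58
theorem D75 : act 6 n58 = n75 := rfl
theorem F423 : act 0 n75 = n75 := d5_1 D75 (iv D75) F329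
theorem F424 : act 1 n75 = n61 := d12_1 D75 (iv D61) (iv F330)
theorem F425 : act 3 n75 = n75 := d23_1 D75 (iv D75) F331
theorem F426 : act 5 n75 = n75 := d30_1 D75 (iv D75) (iv D58) F263 D58
theorem F427 : act 7 n75 = n75 := d33_2 (iv F332) D75 (iv D75) F332 F268
theorem F428 : act 8 n75 = n75 := d34_2 F333 D75 (iv D75)
def n76 : Q := act 3 n59
theorem D76 : act 3 n59 = n76 := rfl
theorem F429 : act 0 n76 = n76 := d2_1 D76 (iv D76) F334
theorem F430 : act 1 n76 = n62 := d9_1 D76 (iv D62) (iv F335)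
theorem F431 : act 4 n76 = n76 := d21_2 D59 D76 (iv D76) (iv D59) F267
theorem F432 : act 5 n76 = n76 := d22_2 F336 D76 (iv D76)
theorem F433 : act 6 n76 = n76 := d23_2 F337 D76 (iv D76)
theorem F434 : act 8 n76 = n76 := d25_2 F338 D76 (iv D76)
def n77 : Q := act 3 n60
theorem D77 : act 3 n60 = n77 := rfl
theorem F435 : act 0 n77 = n63 := d2_1 D77 (iv D63) (iv F339)
theorem F436 : act 4 n77 = n77 := d21_2 D60 D77 (iv D77) (iv D60) F272
theorem F437 : act 5 n77 = n77 := d22_2 F341 D77 (iv D77)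
theorem F438 : act 7 n77 = n62 := d24_2 (iv F342) D77 (iv D62)
theorem F439 : act 8 n77 = n77 := d25_2 F343 D77 (iv D77)
def n78 : Q := act 6 n60
theorem D78 : act 6 n60 = n78 := rfl
theorem F440 : act 0 n78 = n64 := d5_1 D78 (iv D64) (iv F339)
theorem F441 : act 2 n78 = n78 := d18_1 D78 (iv D78) F340
theorem F442 : act 4 n78 = n61 := d27_1 D78 (iv D61) D60
theorem F443 : act 7 n78 = n78 := d33_2 (iv F342) D78 (iv D78) F342 F278
theorem F444 : act 8 n78 = n78 := d34_2 F343 D78 (iv D78)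
def n79 : Q := act 2 n62
theorem D79 : act 2 n62 = n79 := rfl
theorem F445 : act 0 n79 = n65 := d1_1 D79 (iv D65) (iv F350)
theorem F446 : act 3 n79 = n79 := d15_2 D62 D79 (iv D79) (iv D62) F276
theorem F447 : act 4 n79 = n79 := d16_2 F351 D79 (iv D79)
theorem F448 : act 5 n79 = n79 := d17_2 F352 D79 (iv D79)
theorem F449 : act 6 n79 = n79 := d18_2 F353 D79 (iv D79)
theorem F450 : act 8 n79 = n79 := d20_2 F354 D79 (iv D79)
def n80 : Q := act 2 n63
theorem D80 : act 2 n63 = n80 := rfl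
theorem F451 : act 3 n80 = n80 := d15_2 D63 D80 (iv D80) (iv D63) F281
theorem F452 : act 4 n80 = n80 := d16_2 F356 D80 (iv D80)
theorem F453 : act 5 n80 = n80 := d17_2 F357 D80 (iv D80)
theorem F454 : act 7 n80 = n65 := d19_2 (iv F358) D80 (iv D65)
theorem F455 : act 8 n80 = n80 := d20_2 F359 D80 (iv D80)
def n81 : Q := act 6 n63
theorem D81 : act 6 n63 = n81 := rfl
theorem F456 : act 1 n81 = n81 := d12_1 D81 (iv D81) F355
theorem F457 : act 3 n81 = n64 := d23_1 D81 (iv D64) D63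
theorem F458 : act 4 n81 = n81 := d27_1 D81 (iv D81) F356
theorem F459 : act 7 n81 = n81 := d33_2 (iv F358) D81 (iv D81) F358 F294
theorem F460 : act 8 n81 = n81 := d34_2 F359 D81 (iv D81)
def n82 : Q := act 5 n64
theorem D82 : act 5 n64 = n82 := rfl
theorem F461 : act 1 n82 = n82 := d11_1 D82 (iv D82) F360
theorem F462 : act 2 n82 = n82 := d17_1 D82 (iv D82) F361
theorem F463 : act 4 n82 = n82 := d26_1 D82 (iv D82) F362 F288 (iv F362)
theorem F464 : act 6 n82 = n82 := d30_2 D64 D82 (iv D82) (iv D64) F282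
theorem F465 : act 7 n82 = n82 := d31_2 F363 D82 (iv D82)
def n83 : Q := act 1 n65
theorem D83 : act 1 n65 = n83 := rfl
theorem F466 : act 2 n83 = n83 := d8_2 D65 D83 (iv D83) (iv D65) F291
theorem F467 : act 3 n83 = n83 := d9_2 F365 D83 (iv D83)
theorem F468 : act 4 n83 = n83 := d10_2 F366 D83 (iv D83)
theorem F469 : act 5 n83 = n83 := d11_2 F367 D83 (iv D83)
theorem F470 : act 6 n83 = n83 := d12_2 F368 D83 (iv D83)
theorem F471 : act 8 n83 = n83 := d14_2 F369 D83 (iv D83)
def n84 : Q := act 7 n66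
theorem D84 : act 7 n66 = n84 := rfl
theorem F472 : act 0 n84 = n84 := d6_1 D84 (iv D84) F370
theorem F473 : act 1 n84 = n84 := d13_1 D84 (iv D84) F371
theorem F474 : act 2 n84 = n84 := d19_1 D84 (iv D84) F372
theorem F475 : act 3 n84 = n84 := d24_1 D84 (iv D84) F373
theorem F476 : act 4 n84 = n84 := d28_1 D84 (iv D84) F374
theorem F477 : act 5 n84 = n67 := d31_1 D84 (iv D67) D66
def n85 : Q := act 8 n66
theorem D85 : act 8 n66 = n85 := rfl
def n86 : Q := act 8 n67
theorem D86 : act 8 n67 = n86 := rfl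
theorem F484 : act 0 n86 = n86 := d7_1 D86 (iv D86) F376
theorem F485 : act 1 n86 = n86 := d14_1 D86 (iv D86) F377
theorem F486 : act 2 n86 = n86 := d20_1 D86 (iv D86) F378
theorem F487 : act 3 n86 = n86 := d25_1 D86 (iv D86) F379
theorem F488 : act 4 n86 = n70 := d29_1 D86 (iv D70) (iv F380)
theorem F489 : act 6 n86 = n86 := d34_1 D86 (iv D86) F381
theorem F490 : act 7 n86 = n68 := d35_1 D86 (iv D68) D67
def n87 : Q := act 5 n68
theorem D87 : act 5 n68 = n87 := rfl
def n88 : Q := act 6 n69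
theorem D88 : act 6 n69 = n88 := rfl
def n89 : Q := act 5 n70
theorem D89 : act 5 n70 = n89 := rfl
theorem F501 : act 0 n89 = n89 := d4_1 D89 (iv D89) F395
theorem F502 : act 1 n89 = n89 := d11_1 D89 (iv D89) F396
theorem F503 : act 2 n89 = n89 := d17_1 D89 (iv D89) F397
theorem F504 : act 3 n89 = n72 := d22_1 D89 (iv D72) (iv F398)
theorem F505 : act 7 n89 = n71 := d31_2 (iv F400) D89 (iv D71)
theorem F506 : act 8 n89 = n89 := d32_2 D70 D89 (iv D89) (iv D70) F311
def n90 : Q := act 4 n71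
theorem D90 : act 4 n71 = n90 := rfl
def n91 : Q := act 4 n72
theorem D91 : act 4 n72 = n91 := rfl
theorem F512 : act 0 n91 = n91 := d3_1 D91 (iv D91) F407
theorem F513 : act 1 n91 = n91 := d10_1 D91 (iv D91) F408
theorem F514 : act 2 n91 = n74 := d16_1 D91 (iv D74) (iv F409)
theorem F515 : act 5 n91 = n91 := d26_2 D72 D91 (iv D91) (iv D72) F321
theorem F516 : act 7 n91 = n73 := d28_2 (iv F410) D91 (iv D73)
theorem F517 : act 8 n91 = n91 := d29_2 F411 D91 (iv D91)
def n92 : Q := act 6 n72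
theorem D92 : act 6 n72 = n92 := rfl
theorem F518 : act 0 n92 = n92 := d5_1 D92 (iv D92) F407
theorem F519 : act 1 n92 = n92 := d12_1 D92 (iv D92) F408
theorem F520 : act 2 n92 = n75 := d18_1 D92 (iv D75) (iv F409)
theorem F521 : act 5 n92 = n92 := d30_1 D92 (iv D92) (iv D72) F322 D72
theorem F522 : act 7 n92 = n92 := d33_2 (iv F410) D92 (iv D92) F410 F327
theorem F523 : act 8 n92 = n92 := d34_2 F411 D92 (iv D92)
def n93 : Q := act 3 n73
theorem D93 : act 3 n73 = n93 := rfl
def n94 : Q := act 3 n74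
theorem D94 : act 3 n74 = n94 := rfl
theorem F529 : act 0 n94 = n94 := d2_1 D94 (iv D94) F418
theorem F530 : act 1 n94 = n77 := d9_1 D94 (iv D77) (iv F419)
theorem F531 : act 4 n94 = n94 := d21_2 D74 D94 (iv D94) (iv D74) F331
theorem F532 : act 5 n94 = n94 := d22_2 F420 D94 (iv D94)
theorem F533 : act 7 n94 = n76 := d24_2 (iv F421) D94 (iv D76)
theorem F534 : act 8 n94 = n94 := d25_2 F422 D94 (iv D94)
def n95 : Q := act 6 n74
theorem D95 : act 6 n74 = n95 := rfl
theorem F535 : act 0 n95 = n95 := d5_1 D95 (iv D95) F418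
theorem F536 : act 1 n95 = n78 := d12_1 D95 (iv D78) (iv F419)
theorem F537 : act 4 n95 = n75 := d27_1 D95 (iv D75) D74
theorem F538 : act 7 n95 = n95 := d33_2 (iv F421) D95 (iv D95) F421 F337
theorem F539 : act 8 n95 = n95 := d34_2 F422 D95 (iv D95)
def n96 : Q := act 2 n76
theorem D96 : act 2 n76 = n96 := rfl
def n97 : Q := act 2 n77
theorem D97 : act 2 n77 = n97 := rfl
theorem F545 : act 0 n97 = n80 := d1_1 D97 (iv D80) (iv F435)
theorem F546 : act 3 n97 = n97 := d15_2 D77 D97 (iv D97) (iv D77) F340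
theorem F547 : act 4 n97 = n97 := d16_2 F436 D97 (iv D97)
theorem F548 : act 5 n97 = n97 := d17_2 F437 D97 (iv D97)
theorem F549 : act 7 n97 = n79 := d19_2 (iv F438) D97 (iv D79)
theorem F550 : act 8 n97 = n97 := d20_2 F439 D97 (iv D97)
def n98 : Q := act 6 n77
theorem D98 : act 6 n77 = n98 := rfl
theorem F551 : act 0 n98 = n81 := d5_1 D98 (iv D81) (iv F435)
theorem F552 : act 3 n98 = n78 := d23_1 D98 (iv D78) D77
theorem F553 : act 4 n98 = n98 := d27_1 D98 (iv D98) F436
theorem F554 : act 7 n98 = n98 := d33_2 (iv F438) D98 (iv D98) F438 F353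
theorem F555 : act 8 n98 = n98 := d34_2 F439 D98 (iv D98)
def n99 : Q := act 5 n78
theorem D99 : act 5 n78 = n99 := rfl
theorem F556 : act 0 n99 = n82 := d4_1 D99 (iv D82) (iv F440)
theorem F557 : act 2 n99 = n99 := d17_1 D99 (iv D99) F441
theorem F558 : act 4 n99 = n99 := d26_1 D99 (iv D99) F442 F347 (iv F442)
theorem F559 : act 6 n99 = n99 := d30_2 D78 D99 (iv D99) (iv D78) F341
theorem F560 : act 7 n99 = n99 := d31_2 F443 D99 (iv D99)
def n100 : Q := act 1 n79
theorem D100 : act 1 n79 = n100 := rfl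
def n101 : Q := act 1 n80
theorem D101 : act 1 n80 = n101 := rfl
theorem F566 : act 2 n101 = n101 := d8_2 D80 D101 (iv D101) (iv D80) F355
theorem F567 : act 3 n101 = n101 := d9_2 F451 D101 (iv D101)
theorem F568 : act 4 n101 = n101 := d10_2 F452 D101 (iv D101)
theorem F569 : act 5 n101 = n101 := d11_2 F453 D101 (iv D101)
theorem F570 : act 7 n101 = n83 := d13_2 (iv F454) D101 (iv D83)
theorem F571 : act 8 n101 = n101 := d14_2 F455 D101 (iv D101)
def n102 : Q := act 6 n80
theorem D102 : act 6 n80 = n102 := rfl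
theorem F572 : act 2 n102 = n81 := d18_1 D102 (iv D81) D80
theorem F573 : act 3 n102 = n102 := d23_1 D102 (iv D102) F451
theorem F574 : act 4 n102 = n102 := d27_1 D102 (iv D102) F452
theorem F575 : act 7 n102 = n102 := d33_2 (iv F454) D102 (iv D102) F454 F368
theorem F576 : act 8 n102 = n102 := d34_2 F455 D102 (iv D102)
def n103 : Q := act 5 n81
theorem D103 : act 5 n81 = n103 := rfl
theorem F577 : act 1 n103 = n103 := d11_1 D103 (iv D103) F456
theorem F578 : act 3 n103 = n82 := d22_1 D103 (iv D82) (iv F457)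
theorem F579 : act 6 n103 = n103 := d30_2 D81 D103 (iv D103) (iv D81) F357
theorem F580 : act 7 n103 = n103 := d31_2 F459 D103 (iv D103)
def n104 : Q := act 8 n82
theorem D104 : act 8 n82 = n104 := rfl
theorem F581 : act 1 n104 = n104 := d14_1 D104 (iv D104) F461
theorem F582 : act 2 n104 = n104 := d20_1 D104 (iv D104) F462
theorem F583 : act 4 n104 = n104 := d29_1 D104 (iv D104) F463
theorem F584 : act 5 n104 = n104 := d32_1 D104 (iv D104) (iv D82) F364 D82
theorem F585 : act 6 n104 = n104 := d34_1 D104 (iv D104) F464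
theorem F586 : act 7 n104 = n104 := d35_1 D104 (iv D104) F465
def n105 : Q := act 0 n83
theorem D105 : act 0 n83 = n105 := rfl
def n106 : Q := act 6 n84
theorem D106 : act 6 n84 = n106 := rfl
theorem F593 : act 0 n106 = n106 := d5_1 D106 (iv D106) F472
theorem F594 : act 1 n106 = n106 := d12_1 D106 (iv D106) F473
theorem F595 : act 2 n106 = n106 := d18_1 D106 (iv D106) F474
theorem F596 : act 3 n106 = n106 := d23_1 D106 (iv D106) F475
theorem F597 : act 4 n106 = n106 := d27_1 D106 (iv D106) F476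
theorem F598 : act 5 n106 = n106 := d30_1 D106 (iv D106) F477 F381 (iv F477)
theorem F599 : act 7 n106 = n106 := d33_2 D84 D106 (iv D106) (iv D84) F375
def n107 : Q := act 8 n84
theorem D107 : act 8 n84 = n107 := rfl
def n108 : Q := act 5 n85
theorem D108 : act 5 n85 = n108 := rfl
theorem F610 : act 8 n108 = n87 := d32_2 D85 D108 (iv D87) (iv D68) D66
def n109 : Q := act 5 n86
theorem D109 : act 5 n86 = n109 := rfl
theorem F615 : act 7 n109 = n87 := d31_2 (iv F490) D109 (iv D87)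
def n111 : Q := act 6 n87
theorem D111 : act 6 n87 = n111 := rfl
theorem F624 : act 5 n111 = n88 := d30_1 D111 (iv D88) (iv D69) (iv F387) D87
def n113 : Q := act 4 n89
theorem D113 : act 4 n89 = n113 := rfl
theorem F635 : act 7 n113 = n90 := d28_2 (iv F505) D113 (iv D90)
def n114 : Q := act 6 n89
theorem D114 : act 6 n89 = n114 := rfl
theorem F637 : act 0 n114 = n114 := d5_1 D114 (iv D114) F501
theorem F638 : act 1 n114 = n114 := d12_1 D114 (iv D114) F502
theorem F639 : act 2 n114 = n114 := d18_1 D114 (iv D114) F503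
theorem F640 : act 3 n114 = n92 := d23_1 D114 (iv D92) (iv F504)
theorem F641 : act 5 n114 = n114 := d30_1 D114 (iv D114) (iv D89) F399 D89
theorem F642 : act 7 n114 = n114 := d33_2 (iv F505) D114 (iv D114) F505 F405
theorem F643 : act 8 n114 = n114 := d34_2 F506 D114 (iv D114)
def n116 : Q := act 3 n91
theorem D116 : act 3 n91 = n116 := rfl
theorem F652 : act 7 n116 = n93 := d24_2 (iv F516) D116 (iv D93)
def n117 : Q := act 6 n91
theorem D117 : act 6 n91 = n117 := rfl
theorem F654 : act 0 n117 = n117 := d5_1 D117 (iv D117) F512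
theorem F655 : act 1 n117 = n117 := d12_1 D117 (iv D117) F513
theorem F656 : act 2 n117 = n95 := d18_1 D117 (iv D95) (iv F514)
theorem F657 : act 4 n117 = n92 := d27_1 D117 (iv D92) D91
theorem F658 : act 7 n117 = n117 := d33_2 (iv F516) D117 (iv D117) F516 F416
theorem F659 : act 8 n117 = n117 := d34_2 F517 D117 (iv D117)
def n119 : Q := act 2 n94
theorem D119 : act 2 n94 = n119 := rfl
theorem F668 : act 7 n119 = n96 := d19_2 (iv F533) D119 (iv D96)
def n120 : Q := act 6 n94
theorem D120 : act 6 n94 = n120 := rfl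
theorem F670 : act 0 n120 = n120 := d5_1 D120 (iv D120) F529
theorem F671 : act 1 n120 = n98 := d12_1 D120 (iv D98) (iv F530)
theorem F672 : act 3 n120 = n95 := d23_1 D120 (iv D95) D94
theorem F673 : act 4 n120 = n120 := d27_1 D120 (iv D120) F531
theorem F674 : act 7 n120 = n120 := d33_2 (iv F533) D120 (iv D120) F533 F433
theorem F675 : act 8 n120 = n120 := d34_2 F534 D120 (iv D120)
def n121 : Q := act 5 n95
theorem D121 : act 5 n95 = n121 := rfl
theorem F676 : act 0 n121 = n121 := d4_1 D121 (iv D121) F535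
theorem F677 : act 1 n121 = n99 := d11_1 D121 (iv D99) (iv F536)
theorem F678 : act 4 n121 = n121 := d26_1 D121 (iv D121) F537 F426 (iv F537)
theorem F679 : act 6 n121 = n121 := d30_2 D95 D121 (iv D121) (iv D95) F420
theorem F680 : act 7 n121 = n121 := d31_2 F538 D121 (iv D121)
def n123 : Q := act 1 n97
theorem D123 : act 1 n97 = n123 := rfl
theorem F689 : act 7 n123 = n100 := d13_2 (iv F549) D123 (iv D100)
def n124 : Q := act 6 n97
theorem D124 : act 6 n97 = n124 := rfl
theorem F691 : act 0 n124 = n102 := d5_1 D124 (iv D102) (iv F545)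
theorem F692 : act 2 n124 = n98 := d18_1 D124 (iv D98) D97
theorem F693 : act 3 n124 = n124 := d23_1 D124 (iv D124) F546
theorem F694 : act 4 n124 = n124 := d27_1 D124 (iv D124) F547
theorem F695 : act 7 n124 = n124 := d33_2 (iv F549) D124 (iv D124) F549 F449
theorem F696 : act 8 n124 = n124 := d34_2 F550 D124 (iv D124)
def n125 : Q := act 5 n98
theorem D125 : act 5 n98 = n125 := rfl
theorem F697 : act 0 n125 = n103 := d4_1 D125 (iv D103) (iv F551)
theorem F698 : act 3 n125 = n99 := d22_1 D125 (iv D99) (iv F552)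
theorem F699 : act 6 n125 = n125 := d30_2 D98 D125 (iv D125) (iv D98) F437
theorem F700 : act 7 n125 = n125 := d31_2 F554 D125 (iv D125)
def n126 : Q := act 8 n99
theorem D126 : act 8 n99 = n126 := rfl
theorem F701 : act 0 n126 = n104 := d7_1 D126 (iv D104) (iv F556)
theorem F702 : act 2 n126 = n126 := d20_1 D126 (iv D126) F557
theorem F703 : act 4 n126 = n126 := d29_1 D126 (iv D126) F558
theorem F704 : act 5 n126 = n126 := d32_1 D126 (iv D126) (iv D99) F444 D99
theorem F705 : act 6 n126 = n126 := d34_1 D126 (iv D126) F559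
theorem F706 : act 7 n126 = n126 := d35_1 D126 (iv D126) F560
def n128 : Q := act 0 n101
theorem D128 : act 0 n101 = n128 := rfl
theorem F717 : act 7 n128 = n105 := d6_2 (iv F570) D128 (iv D105)
def n129 : Q := act 6 n101
theorem D129 : act 6 n101 = n129 := rfl
theorem F719 : act 1 n129 = n102 := d12_1 D129 (iv D102) D101
theorem F720 : act 2 n129 = n129 := d18_1 D129 (iv D129) F566
theorem F721 : act 3 n129 = n129 := d23_1 D129 (iv D129) F567
theorem F722 : act 4 n129 = n129 := d27_1 D129 (iv D129) F568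
theorem F723 : act 7 n129 = n129 := d33_2 (iv F570) D129 (iv D129) F570 F470
theorem F724 : act 8 n129 = n129 := d34_2 F571 D129 (iv D129)
def n130 : Q := act 5 n102
theorem D130 : act 5 n102 = n130 := rfl
theorem F725 : act 2 n130 = n103 := d17_1 D130 (iv D103) (iv F572)
theorem F726 : act 3 n130 = n130 := d22_1 D130 (iv D130) F573
theorem F727 : act 6 n130 = n130 := d30_2 D102 D130 (iv D130) (iv D102) F453
theorem F728 : act 7 n130 = n130 := d31_2 F575 D130 (iv D130)
def n131 : Q := act 4 n103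
theorem D131 : act 4 n103 = n131 := rfl
theorem F729 : act 1 n131 = n131 := d10_1 D131 (iv D131) F577
theorem F730 : act 3 n131 = n131 := d21_1 D131 (iv D131) F578 F463 (iv F578)
theorem F731 : act 5 n131 = n131 := d26_2 D103 D131 (iv D131) (iv D103) F458
theorem F732 : act 6 n131 = n131 := d27_2 F579 D131 (iv D131)
theorem F733 : act 7 n131 = n131 := d28_2 F580 D131 (iv D131)
def n132 : Q := act 8 n103
theorem D132 : act 8 n103 = n132 := rfl
theorem F734 : act 1 n132 = n132 := d14_1 D132 (iv D132) F577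
theorem F735 : act 3 n132 = n104 := d25_1 D132 (iv D104) (iv F578)
theorem F736 : act 5 n132 = n132 := d32_1 D132 (iv D132) (iv D103) F460 D103
theorem F737 : act 6 n132 = n132 := d34_1 D132 (iv D132) F579
theorem F738 : act 7 n132 = n132 := d35_1 D132 (iv D132) F580
def n133 : Q := act 8 n106
theorem D133 : act 8 n106 = n133 := rfl
theorem F744 : act 6 n133 = n107 := d34_1 D133 (iv D107) D106
def n134 : Q := act 5 n107
theorem D134 : act 5 n107 = n134 := rfl
theorem F751 : act 8 n134 = n109 := d32_2 D107 D134 (iv D109) (iv D86) (iv F477)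
def n137 : Q := act 4 n109
theorem D137 : act 4 n109 = n137 := rfl
theorem F766 : act 5 n137 = n113 := d26_2 D109 D137 (iv D113) (iv D89) (iv F488)
def n142 : Q := act 3 n113
theorem D142 : act 3 n113 = n142 := rfl
theorem F789 : act 4 n142 = n116 := d21_2 D113 D142 (iv D116) (iv D91) (iv F504)
def n143 : Q := act 6 n113
theorem D143 : act 6 n113 = n143 := rfl
theorem F795 : act 4 n143 = n114 := d27_1 D143 (iv D114) D113
def n145 : Q := act 2 n116
theorem D145 : act 2 n116 = n145 := rfl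
theorem F804 : act 3 n145 = n119 := d15_2 D116 D145 (iv D119) (iv D94) (iv F514)
def n146 : Q := act 6 n116
theorem D146 : act 6 n116 = n146 := rfl
theorem F810 : act 3 n146 = n117 := d23_1 D146 (iv D117) D116
def n147 : Q := act 5 n117
theorem D147 : act 5 n117 = n147 := rfl
theorem F813 : act 0 n147 = n147 := d4_1 D147 (iv D147) F654
theorem F814 : act 1 n147 = n147 := d11_1 D147 (iv D147) F655
theorem F815 : act 2 n147 = n121 := d17_1 D147 (iv D121) (iv F656)
theorem F816 : act 4 n147 = n147 := d26_1 D147 (iv D147) F657 F521 (iv F657)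
theorem F817 : act 6 n147 = n147 := d30_2 D117 D147 (iv D147) (iv D117) F515
theorem F818 : act 7 n147 = n147 := d31_2 F658 D147 (iv D147)
def n149 : Q := act 1 n119
theorem D149 : act 1 n119 = n149 := rfl
theorem F824 : act 2 n149 = n123 := d8_2 D119 D149 (iv D123) (iv D97) (iv F530)
def n150 : Q := act 6 n119
theorem D150 : act 6 n119 = n150 := rfl
theorem F830 : act 2 n150 = n120 := d18_1 D150 (iv D120) D119
def n151 : Q := act 5 n120
theorem D151 : act 5 n120 = n151 := rfl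
theorem F834 : act 0 n151 = n151 := d4_1 D151 (iv D151) F670
theorem F835 : act 1 n151 = n125 := d11_1 D151 (iv D125) (iv F671)
theorem F836 : act 3 n151 = n121 := d22_1 D151 (iv D121) (iv F672)
theorem F837 : act 6 n151 = n151 := d30_2 D120 D151 (iv D151) (iv D120) F532
theorem F838 : act 7 n151 = n151 := d31_2 F674 D151 (iv D151)
def n152 : Q := act 8 n121
theorem D152 : act 8 n121 = n152 := rfl
theorem F839 : act 0 n152 = n152 := d7_1 D152 (iv D152) F676
theorem F840 : act 1 n152 = n126 := d14_1 D152 (iv D126) (iv F677)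
theorem F841 : act 4 n152 = n152 := d29_1 D152 (iv D152) F678
theorem F842 : act 5 n152 = n152 := d32_1 D152 (iv D152) (iv D121) F539 D121
theorem F843 : act 6 n152 = n152 := d34_1 D152 (iv D152) F679
theorem F844 : act 7 n152 = n152 := d35_1 D152 (iv D152) F680
def n154 : Q := act 0 n123
theorem D154 : act 0 n123 = n154 := rfl
theorem F851 : act 1 n154 = n128 := d0_2 D123 D154 (iv D128) (iv D101) (iv F545)
def n155 : Q := act 6 n123
theorem D155 : act 6 n123 = n155 := rfl
theorem F857 : act 1 n155 = n124 := d12_1 D155 (iv D124) D123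
def n156 : Q := act 5 n124
theorem D156 : act 5 n124 = n156 := rfl
theorem F862 : act 0 n156 = n130 := d4_1 D156 (iv D130) (iv F691)
theorem F863 : act 2 n156 = n125 := d17_1 D156 (iv D125) (iv F692)
theorem F864 : act 3 n156 = n156 := d22_1 D156 (iv D156) F693
theorem F865 : act 6 n156 = n156 := d30_2 D124 D156 (iv D156) (iv D124) F548
theorem F866 : act 7 n156 = n156 := d31_2 F695 D156 (iv D156)
theorem F867 : act 4 n132 = n156 := d36_2 F582 (iv F735) (iv D156) (iv D124) F549 F450 (iv D79) (iv D62) (iv D48) (iv D37) F171 F126 (iv D20) F90 F91 F92 (iv D14) F68 F69 F70 F66 F67 (iv D10) F49 F50 F51 F52 F48 (iv D7) F29 F30 F31 F32 F33 (iv D4) F16 F17 F18 F19 F20 F21 D4 D7 D10 D14 D19 D27 D36 F211 F212 F213 D47 D61 F348 F349 F345 F346 (iv F442) D99 F559 F560 D126 F701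
theorem F868 : act 1 n156 = n156 := d10_1 F867 (iv F867) F734
theorem F869 : act 8 n156 = n131 := d29_2 D132 F867 (iv D131)
theorem F870 : act 2 n151 = n151 := d8_4 (iv F863) F868 F863 (iv F835) F835
theorem E1 : n155 = n124 := (c11_4 D156 F868 (iv D156) (iv F857))
theorem F871 : act 1 n124 = n124 := (sb E1 F857)
theorem E2 : n123 = n97 := ((((iv D124)).symm.trans (sb E1 (iv D155)))).symm
theorem E3 : n154 = n80 := (((F545).symm.trans (sb E2 D154))).symm
theorem F872 : act 1 n97 = n97 := (sb E2 (iv D123))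
theorem E4 : n149 = n77 := ((((iv D97)).symm.trans (sb E2 (iv F824)))).symm
theorem E5 : n100 = n79 := (((F549).symm.trans (sb E2 F689))).symm
theorem E6 : n128 = n101 := (((D101).symm.trans (sb E3 F851))).symm
theorem E8 : n119 = n94 := ((((iv F530)).symm.trans (sb E4 (iv D149)))).symm
theorem F873 : act 1 n79 = n79 := (sb E5 (iv D100))
theorem F874 : act 0 n101 = n101 := (sb E6 (iv D128))
theorem E10 : n105 = n83 := (((F570).symm.trans (sb E6 F717))).symm
theorem F875 : act 2 n94 = n94 := (sb E8 (iv D119))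
theorem E12 : n145 = n74 := ((((iv D94)).symm.trans (sb E8 (iv F804)))).symm
theorem E13 : n150 = n120 := (((D120).symm.trans (sb E8 D150))).symm
theorem E14 : n96 = n76 := (((F533).symm.trans (sb E8 F668))).symm
theorem F876 : act 0 n83 = n83 := (sb E10 (iv D105))
theorem E16 : n116 = n91 := ((((iv F514)).symm.trans (sb E12 (iv D145)))).symm
theorem F877 : act 2 n120 = n120 := (sb E13 F830)
theorem F878 : act 2 n76 = n76 := (sb E14 (iv D96))
theorem F879 : act 3 n91 = n91 := (sb E16 (iv D116))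
theorem E18 : n142 = n72 := ((((iv D91)).symm.trans (sb E16 (iv F789)))).symm
theorem E19 : n146 = n117 := (((D117).symm.trans (sb E16 D146))).symm
theorem E20 : n93 = n73 := (((F516).symm.trans (sb E16 F652))).symm
theorem E22 : n113 = n89 := ((((iv F504)).symm.trans (sb E18 (iv D142)))).symm
theorem F880 : act 3 n117 = n117 := (sb E19 F810)
theorem F881 : act 3 n73 = n73 := (sb E20 (iv D93))
theorem F882 : act 4 n89 = n89 := (sb E22 (iv D113))
theorem E24 : n137 = n70 := ((((iv D89)).symm.trans (sb E22 (iv F766)))).symm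
theorem E25 : n143 = n114 := (((D114).symm.trans (sb E22 D143))).symm
theorem E26 : n90 = n71 := (((F505).symm.trans (sb E22 F635))).symm
theorem E28 : n109 = n86 := ((((iv F488)).symm.trans (sb E24 (iv D137)))).symm
theorem F883 : act 4 n114 = n114 := (sb E25 F795)
theorem F884 : act 4 n71 = n71 := (sb E26 (iv D90))
theorem F885 : act 5 n86 = n86 := (sb E28 (iv D109))
theorem E31 : n87 = n68 := (((F490).symm.trans (sb E28 F615))).symm
theorem E32 : n134 = n67 := ((((iv D86)).symm.trans (sb E28 (iv F751)))).symm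
theorem F886 : act 5 n68 = n68 := (sb E31 (iv D87))
theorem E35 : n111 = n53 := (((F387).symm.trans (sb E31 D111))).symm
theorem E36 : n108 = n52 := ((((iv D68)).symm.trans (sb E31 (iv F610)))).symm
theorem E37 : n107 = n84 := ((((iv F477)).symm.trans (sb E32 (iv D134)))).symm
theorem E38 : n88 = n69 := (((D69).symm.trans (sb E35 F624))).symm
theorem E41 : n85 = n66 := (((D66).symm.trans (sb E36 (iv D108)))).symm
theorem E42 : n133 = n106 := (((D106).symm.trans (sb E37 (iv F744)))).symm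
theorem F887 : act 8 n84 = n84 := (sb E37 (iv D107))
theorem F888 : act 6 n69 = n69 := (sb E38 (iv D88))
theorem F889 : act 8 n66 = n66 := (sb E41 (iv D85))
theorem F890 : act 8 n106 = n106 := (sb E42 (iv D133))
theorem F891 : act 3 n147 = n147 := d22_3 (iv D147) F880 D147
theorem F892 : act 0 n129 = n129 := d5_3 (iv D129) F874 D129
def n157 : Q := act 4 n125
theorem D157 : act 4 n125 = n157 := rfl
theorem F893 : act 0 n157 = n131 := d3_1 D157 (iv D131) (iv F697)
theorem F894 : act 2 n157 = n132 := d16_1 D157 F867 F863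
theorem F895 : act 3 n157 = n157 := d21_1 D157 (iv D157) F698 F558 (iv F698)
theorem F896 : act 5 n157 = n157 := d26_2 D125 D157 (iv D157) (iv D125) F553
theorem F897 : act 6 n157 = n157 := d27_2 F699 D157 (iv D157)
theorem F898 : act 7 n157 = n157 := d28_2 F700 D157 (iv D157)
theorem F899 : act 8 n130 = n157 := d20_0 F894 (iv D132) (iv F725)
def n158 : Q := act 8 n125
theorem D158 : act 8 n125 = n158 := rfl
theorem F900 : act 0 n158 = n132 := d7_1 D158 (iv D132) (iv F697)
theorem F901 : act 2 n158 = n131 := d20_1 D158 (iv F869) F863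
theorem F902 : act 3 n158 = n126 := d25_1 D158 (iv D126) (iv F698)
theorem F903 : act 4 n158 = n130 := d29_1 D158 F899 (iv D157)
theorem F904 : act 5 n158 = n158 := d32_1 D158 (iv D158) (iv D125) F555 D125
theorem F905 : act 6 n158 = n158 := d34_1 D158 (iv D158) F699
theorem F906 : act 7 n158 = n158 := d35_1 D158 (iv D158) F700
def n159 : Q := act 5 n129
theorem D159 : act 5 n129 = n159 := rfl
theorem F907 : act 0 n159 = n159 := d4_1 D159 (iv D159) F892
theorem F908 : act 1 n159 = n130 := d11_1 D159 (iv D130) (iv F719)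
theorem F909 : act 2 n159 = n159 := d17_1 D159 (iv D159) F720
theorem F910 : act 3 n159 = n159 := d22_1 D159 (iv D159) F721
theorem F911 : act 6 n159 = n159 := d30_2 D129 D159 (iv D159) (iv D129) F569
theorem F912 : act 7 n159 = n159 := d31_2 F723 D159 (iv D159)
def n160 : Q := act 8 n147
theorem D160 : act 8 n147 = n160 := rfl
theorem F913 : act 0 n160 = n160 := d7_1 D160 (iv D160) F813
theorem F914 : act 1 n160 = n160 := d14_1 D160 (iv D160) F814
theorem F915 : act 2 n160 = n152 := d20_1 D160 (iv D152) (iv F815)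
theorem F916 : act 3 n160 = n160 := d25_1 D160 (iv D160) F891
theorem F917 : act 4 n160 = n160 := d29_1 D160 (iv D160) F816
theorem F918 : act 5 n160 = n160 := d32_1 D160 (iv D160) (iv D147) F659 D147
theorem F919 : act 6 n160 = n160 := d34_1 D160 (iv D160) F817
theorem F920 : act 7 n160 = n160 := d35_1 D160 (iv D160) F818
def n161 : Q := act 4 n151
theorem D161 : act 4 n151 = n161 := rfl
theorem F921 : act 0 n161 = n161 := d3_1 D161 (iv D161) F834
theorem F922 : act 1 n161 = n157 := d10_1 D161 (iv D157) (iv F835)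
theorem F923 : act 2 n161 = n161 := d16_1 D161 (iv D161) F870
theorem F924 : act 3 n161 = n161 := d21_1 D161 (iv D161) F836 F678 (iv F836)
theorem F925 : act 5 n161 = n161 := d26_2 D151 D161 (iv D161) (iv D151) F673
theorem F926 : act 6 n161 = n161 := d27_2 F837 D161 (iv D161)
theorem F927 : act 7 n161 = n161 := d28_2 F838 D161 (iv D161)
theorem F928 : act 8 n159 = n161 := d14_0 F922 (iv F899) (iv F908)
def n162 : Q := act 8 n151
theorem D162 : act 8 n151 = n162 := rfl
theorem F929 : act 0 n162 = n162 := d7_1 D162 (iv D162) F834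
theorem F930 : act 1 n162 = n158 := d14_1 D162 (iv D158) (iv F835)
theorem F931 : act 2 n162 = n162 := d20_1 D162 (iv D162) F870
theorem F932 : act 3 n162 = n152 := d25_1 D162 (iv D152) (iv F836)
theorem F933 : act 4 n162 = n159 := d29_1 D162 F928 (iv D161)
theorem F934 : act 5 n162 = n162 := d32_1 D162 (iv D162) (iv D151) F675 D151
theorem F935 : act 6 n162 = n162 := d34_1 D162 (iv D162) F837
theorem F936 : act 7 n162 = n162 := d35_1 D162 (iv D162) F838

end Cfsg.Agent.Helper17.E8hTC
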