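import Cfsg.Agent.Helper17.E8hTC.Final

set_option autoImplicit false
set_option linter.all false
set_option maxRecDepth 100000

noncomputable section

namespace Cfsg.Agent.Helper17.E8hTC

theorem N1 : nd 1 = n1 := ndS (p := 0) (l := 1) rfl N0 D1
theorem N2 : nd 2 = n2 := ndS (p := 1) (l := 0) rfl N1 D2
theorem N3 : nd 3 = n3 := ndS (p := 1) (l := 2) rfl N1 D3
theorem N4 : nd 4 = n4 := ndS (p := 2) (l := 2) rfl N2 D4
theorem N5 : nd 5 = n5 := ndS (p := 3) (l := 3) rfl N3 D5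
theorem N6 : nd 6 = n6 := ndS (p := 4) (l := 1) rfl N4 D6
theorem N7 : nd 7 = n7 := ndS (p := 4) (l := 3) rfl N4 D7
theorem N8 : nd 8 = n8 := ndS (p := 5) (l := 4) rfl N5 D8
theorem N9 : nd 9 = n9 := ndS (p := 6) (l := 3) rfl N6 D9
theorem N10 : nd 10 = n10 := ndS (p := 7) (l := 4) rfl N7 D10
theorem N11 : nd 11 = n11 := ndS (p := 8) (l := 5) rfl N8 D11
theorem N12 : nd 12 = n12 := ndS (p := 9) (l := 2) rfl N9 D12
theorem N13 : nd 13 = n13 := ndS (p := 9) (l := 4) rfl N9 D13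
theorem N14 : nd 14 = n14 := ndS (p := 10) (l := 5) rfl N10 D14
theorem N15 : nd 15 = n15 := ndS (p := 11) (l := 6) rfl N11 D15
theorem N16 : nd 16 = n16 := ndS (p := 11) (l := 8) rfl N11 D16
theorem N17 : nd 17 = n17 := ndS (p := 12) (l := 4) rfl N12 D17
theorem N18 : nd 18 = n18 := ndS (p := 13) (l := 5) rfl N13 D18
theorem N19 : nd 19 = n19 := ndS (p := 14) (l := 6) rfl N14 D19
theorem N20 : nd 20 = n20 := ndS (p := 14) (l := 8) rfl N14 D20
theorem N21 : nd 21 = n21 := ndS (p := 15) (l := 7) rfl N15 D21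
theorem N22 : nd 22 = n22 := ndS (p := 15) (l := 8) rfl N15 D22
theorem N23 : nd 23 = n23 := ndS (p := 17) (l := 3) rfl N17 D23
theorem N24 : nd 24 = n24 := ndS (p := 17) (l := 5) rfl N17 D24
theorem N25 : nd 25 = n25 := ndS (p := 18) (l := 6) rfl N18 D25
theorem N26 : nd 26 = n26 := ndS (p := 18) (l := 8) rfl N18 D26
theorem N27 : nd 27 = n27 := ndS (p := 19) (l := 7) rfl N19 D27
theorem N28 : nd 28 = n28 := ndS (p := 19) (l := 8) rfl N19 D28
theorem N29 : nd 29 = n29 := ndS (p := 21) (l := 8) rfl N21 D29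
theorem N30 : nd 30 = n30 := ndS (p := 22) (l := 5) rfl N22 D30
theorem N31 : nd 31 = n31 := ndS (p := 23) (l := 5) rfl N23 D31
theorem N32 : nd 32 = n32 := ndS (p := 24) (l := 6) rfl N24 D32
theorem N33 : nd 33 = n33 := ndS (p := 24) (l := 8) rfl N24 D33
theorem N34 : nd 34 = n34 := ndS (p := 25) (l := 7) rfl N25 D34
theorem N35 : nd 35 = n35 := ndS (p := 25) (l := 8) rfl N25 D35
theorem N36 : nd 36 = n36 := ndS (p := 27) (l := 8) rfl N27 D36
theorem N37 : nd 37 = n37 := ndS (p := 28) (l := 5) rfl N28 D37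
theorem N38 : nd 38 = n38 := ndS (p := 29) (l := 5) rfl N29 D38
theorem N39 : nd 39 = n39 := ndS (p := 30) (l := 4) rfl N30 D39
theorem N40 : nd 40 = n40 := ndS (p := 31) (l := 4) rfl N31 D40
theorem N41 : nd 41 = n41 := ndS (p := 31) (l := 6) rfl N31 D41
theorem N42 : nd 42 = n42 := ndS (p := 31) (l := 8) rfl N31 D42
theorem N43 : nd 43 = n43 := ndS (p := 32) (l := 7) rfl N32 D43
theorem N44 : nd 44 = n44 := ndS (p := 32) (l := 8) rfl N32 D44
theorem N45 : nd 45 = n45 := ndS (p := 34) (l := 8) rfl N34 D45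
theorem N46 : nd 46 = n46 := ndS (p := 35) (l := 5) rfl N35 D46
theorem N47 : nd 47 = n47 := ndS (p := 36) (l := 5) rfl N36 D47
theorem N48 : nd 48 = n48 := ndS (p := 37) (l := 4) rfl N37 D48
theorem N49 : nd 49 = n49 := ndS (p := 38) (l := 4) rfl N38 D49
theorem N50 : nd 50 = n50 := ndS (p := 38) (l := 6) rfl N38 D50
theorem N51 : nd 51 = n51 := ndS (p := 39) (l := 3) rfl N39 D51
theorem N52 : nd 52 = n52 := ndS (p := 40) (l := 6) rfl N40 D52
theorem N53 : nd 53 = n53 := ndS (p := 40) (l := 8) rfl N40 D53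
theorem N54 : nd 54 = n54 := ndS (p := 41) (l := 7) rfl N41 D54
theorem N55 : nd 55 = n55 := ndS (p := 41) (l := 8) rfl N41 D55
theorem N56 : nd 56 = n56 := ndS (p := 43) (l := 8) rfl N43 D56
theorem N57 : nd 57 = n57 := ndS (p := 44) (l := 5) rfl N44 D57
theorem N58 : nd 58 = n58 := ndS (p := 45) (l := 5) rfl N45 D58
theorem N59 : nd 59 = n59 := ndS (p := 46) (l := 4) rfl N46 D59
theorem N60 : nd 60 = n60 := ndS (p := 47) (l := 4) rfl N47 D60
theorem N61 : nd 61 = n61 := ndS (p := 47) (l := 6) rfl N47 D61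
theorem N62 : nd 62 = n62 := ndS (p := 48) (l := 3) rfl N48 D62
theorem N63 : nd 63 = n63 := ndS (p := 49) (l := 3) rfl N49 D63
theorem N64 : nd 64 = n64 := ndS (p := 49) (l := 6) rfl N49 D64
theorem N65 : nd 65 = n65 := ndS (p := 51) (l := 2) rfl N51 D65
theorem N66 : nd 66 = n66 := ndS (p := 52) (l := 5) rfl N52 D66
theorem N67 : nd 67 = n67 := ndS (p := 52) (l := 7) rfl N52 D67
theorem N68 : nd 68 = n68 := ndS (p := 52) (l := 8) rfl N52 D68
theorem N69 : nd 69 = n69 := ndS (p := 53) (l := 5) rfl N53 D69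
theorem N70 : nd 70 = n70 := ndS (p := 54) (l := 8) rfl N54 D70
theorem N71 : nd 71 = n71 := ndS (p := 55) (l := 5) rfl N55 D71
theorem N72 : nd 72 = n72 := ndS (p := 56) (l := 5) rfl N56 D72
theorem N73 : nd 73 = n73 := ndS (p := 57) (l := 4) rfl N57 D73
theorem N74 : nd 74 = n74 := ndS (p := 58) (l := 4) rfl N58 D74
theorem N75 : nd 75 = n75 := ndS (p := 58) (l := 6) rfl N58 D75
theorem N76 : nd 76 = n76 := ndS (p := 59) (l := 3) rfl N59 D76
theorem N77 : nd 77 = n77 := ndS (p := 60) (l := 3) rfl N60 D77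
theorem N78 : nd 78 = n78 := ndS (p := 60) (l := 6) rfl N60 D78
theorem N79 : nd 79 = n79 := ndS (p := 62) (l := 2) rfl N62 D79
theorem N80 : nd 80 = n80 := ndS (p := 63) (l := 2) rfl N63 D80
theorem N81 : nd 81 = n81 := ndS (p := 63) (l := 6) rfl N63 D81
theorem N82 : nd 82 = n82 := ndS (p := 64) (l := 5) rfl N64 D82
theorem N83 : nd 83 = n83 := ndS (p := 65) (l := 1) rfl N65 D83
theorem N84 : nd 84 = n84 := ndS (p := 66) (l := 7) rfl N66 D84
theorem N85 : nd 85 = n86 := ndS (p := 67) (l := 8) rfl N67 D86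
theorem N86 : nd 86 = n89 := ndS (p := 70) (l := 5) rfl N70 D89
theorem N87 : nd 87 = n91 := ndS (p := 72) (l := 4) rfl N72 D91
theorem N88 : nd 88 = n92 := ndS (p := 72) (l := 6) rfl N72 D92
theorem N89 : nd 89 = n94 := ndS (p := 74) (l := 3) rfl N74 D94
theorem N90 : nd 90 = n95 := ndS (p := 74) (l := 6) rfl N74 D95
theorem N91 : nd 91 = n97 := ndS (p := 77) (l := 2) rfl N77 D97
theorem N92 : nd 92 = n98 := ndS (p := 77) (l := 6) rfl N77 D98
theorem N93 : nd 93 = n99 := ndS (p := 78) (l := 5) rfl N78 D99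
theorem N94 : nd 94 = n101 := ndS (p := 80) (l := 1) rfl N80 D101
theorem N95 : nd 95 = n102 := ndS (p := 80) (l := 6) rfl N80 D102
theorem N96 : nd 96 = n103 := ndS (p := 81) (l := 5) rfl N81 D103
theorem N97 : nd 97 = n104 := ndS (p := 82) (l := 8) rfl N82 D104
theorem N98 : nd 98 = n106 := ndS (p := 84) (l := 6) rfl N84 D106
theorem N99 : nd 99 = n114 := ndS (p := 86) (l := 6) rfl N86 D114
theorem N100 : nd 100 = n117 := ndS (p := 87) (l := 6) rfl N87 D117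
theorem N101 : nd 101 = n120 := ndS (p := 89) (l := 6) rfl N89 D120
theorem N102 : nd 102 = n121 := ndS (p := 90) (l := 5) rfl N90 D121
theorem N103 : nd 103 = n124 := ndS (p := 91) (l := 6) rfl N91 D124
theorem N104 : nd 104 = n125 := ndS (p := 92) (l := 5) rfl N92 D125
theorem N105 : nd 105 = n126 := ndS (p := 93) (l := 8) rfl N93 D126
theorem N106 : nd 106 = n129 := ndS (p := 94) (l := 6) rfl N94 D129
theorem N107 : nd 107 = n130 := ndS (p := 95) (l := 5) rfl N95 D130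
theorem N108 : nd 108 = n131 := ndS (p := 96) (l := 4) rfl N96 D131
theorem N109 : nd 109 = n132 := ndS (p := 96) (l := 8) rfl N96 D132
theorem N110 : nd 110 = n147 := ndS (p := 100) (l := 5) rfl N100 D147
theorem N111 : nd 111 = n151 := ndS (p := 101) (l := 5) rfl N101 D151
theorem N112 : nd 112 = n152 := ndS (p := 102) (l := 8) rfl N102 D152
theorem N113 : nd 113 = n156 := ndS (p := 103) (l := 5) rfl N103 D156
theorem N114 : nd 114 = n157 := ndS (p := 104) (l := 4) rfl N104 D157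
theorem N115 : nd 115 = n158 := ndS (p := 104) (l := 8) rfl N104 D158
theorem N116 : nd 116 = n159 := ndS (p := 106) (l := 5) rfl N106 D159
theorem N117 : nd 117 = n160 := ndS (p := 110) (l := 8) rfl N110 D160
theorem N118 : nd 118 = n161 := ndS (p := 111) (l := 4) rfl N111 D161
theorem N119 : nd 119 = n162 := ndS (p := 111) (l := 8) rfl N111 D162
theorem Q1 : ∀ i, i < 1 → P i := stepQ 0 Q0 (allL N0 (tt N0 F8) (tt N1 D1) (tt N0 F1) (tt N0 F2) (tt N0 F3) (tt N0 F4) (tt N0 F5) (tt N0 F6) (tt N0 F7))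
theorem Q2 : ∀ i, i < 2 → P i := stepQ 1 Q1 (allL N1 (tt N2 D2) (tt N0 (iv D1)) (tt N3 D3) (tt N1 F9) (tt N1 F10) (tt N1 F11) (tt N1 F12) (tt N1 F13) (tt N1 F14))
theorem Q3 : ∀ i, i < 3 → P i := stepQ 2 Q2 (allL N2 (tt N1 (iv D2)) (tt N2 F15) (tt N4 D4) (tt N2 F16) (tt N2 F17) (tt N2 F18) (tt N2 F19) (tt N2 F20) (tt N2 F21))
theorem Q4 : ∀ i, i < 4 → P i := stepQ 3 Q3 (allL N3 (tt N4 (iv F28)) (tt N3 F22) (tt N1 (iv D3)) (tt N5 D5) (tt N3 F23) (tt N3 F24) (tt N3 F25) (tt N3 F26) (tt N3 F27))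
theorem Q5 : ∀ i, i < 5 → P i := stepQ 4 Q4 (allL N4 (tt N3 F28) (tt N6 D6) (tt N2 (iv D4)) (tt N7 D7) (tt N4 F29) (tt N4 F30) (tt N4 F31) (tt N4 F32) (tt N4 F33))
theorem Q6 : ∀ i, i < 6 → P i := stepQ 5 Q5 (allL N5 (tt N7 (iv F47)) (tt N5 F34) (tt N5 F35) (tt N3 (iv D5)) (tt N8 D8) (tt N5 F36) (tt N5 F37) (tt N5 F38) (tt N5 F39))
theorem Q7 : ∀ i, i < 7 → P i := stepQ 6 Q6 (allL N6 (tt N6 F40) (tt N4 (iv D6)) (tt N6 F41) (tt N9 D9) (tt N6 F42) (tt N6 F43) (tt N6 F44) (tt N6 F45) (tt N6 F46))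
theorem Q8 : ∀ i, i < 8 → P i := stepQ 7 Q7 (allL N7 (tt N5 F47) (tt N9 (iv F60)) (tt N7 F48) (tt N4 (iv D7)) (tt N10 D10) (tt N7 F49) (tt N7 F50) (tt N7 F51) (tt N7 F52))
theorem Q9 : ∀ i, i < 9 → P i := stepQ 8 Q8 (allL N8 (tt N10 (iv F65)) (tt N8 F53) (tt N8 F54) (tt N8 F55) (tt N5 (iv D8)) (tt N11 D11) (tt N8 F56) (tt N8 F57) (tt N8 F58))
theorem Q10 : ∀ i, i < 10 → P i := stepQ 9 Q9 (allL N9 (tt N9 F59) (tt N7 F60) (tt N12 D12) (tt N6 (iv D9)) (tt N13 D13) (tt N9 F61) (tt N9 F62) (tt N9 F63) (tt N9 F64))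
theorem Q11 : ∀ i, i < 11 → P i := stepQ 10 Q10 (allL N10 (tt N8 F65) (tt N13 (iv F84)) (tt N10 F66) (tt N10 F67) (tt N7 (iv D10)) (tt N14 D14) (tt N10 F68) (tt N10 F69) (tt N10 F70))
theorem Q12 : ∀ i, i < 12 → P i := stepQ 11 Q11 (allL N11 (tt N14 (iv F89)) (tt N11 F71) (tt N11 F72) (tt N11 F73) (tt N11 F74) (tt N8 (iv D11)) (tt N15 D15) (tt N11 F75) (tt N16 D16))
theorem Q13 : ∀ i, i < 13 → P i := stepQ 12 Q12 (allL N12 (tt N12 F76) (tt N12 F77) (tt N9 (iv D12)) (tt N12 F78) (tt N17 D17) (tt N12 F79) (tt N12 F80) (tt N12 F81) (tt N12 F82))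
theorem Q14 : ∀ i, i < 14 → P i := stepQ 13 Q13 (allL N13 (tt N13 F83) (tt N10 F84) (tt N17 (iv F107)) (tt N13 F85) (tt N9 (iv D13)) (tt N18 D18) (tt N13 F86) (tt N13 F87) (tt N13 F88))
theorem Q15 : ∀ i, i < 15 → P i := stepQ 14 Q14 (allL N14 (tt N11 F89) (tt N18 (iv F112)) (tt N14 F90) (tt N14 F91) (tt N14 F92) (tt N10 (iv D14)) (tt N19 D19) (tt N14 F93) (tt N20 D20))
theorem Q16 : ∀ i, i < 16 → P i := stepQ 15 Q15 (allL N15 (tt N19 (iv F116)) (tt N15 F94) (tt N15 F95) (tt N15 F96) (tt N15 F97) (tt N15 F98) (tt N11 (iv D15)) (tt N21 D21) (tt N22 D22))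
theorem Q17 : ∀ i, i < 17 → P i := stepQ 16 Q16 (allL N16 (tt N20 (iv F121)) (tt N16 F99) (tt N16 F100) (tt N16 F101) (tt N16 F102) (tt N16 F103) (tt N22 (iv F137)) (tt N16 F104) (tt N11 (iv D16)))
theorem Q18 : ∀ i, i < 18 → P i := stepQ 17 Q17 (allL N17 (tt N17 F105) (tt N17 F106) (tt N13 F107) (tt N23 D23) (tt N12 (iv D17)) (tt N24 D24) (tt N17 F108) (tt N17 F109) (tt N17 F110))
theorem Q19 : ∀ i, i < 19 → P i := stepQ 18 Q18 (allL N18 (tt N18 F111) (tt N14 F112) (tt N24 (iv F147)) (tt N18 F113) (tt N18 F114) (tt N13 (iv D18)) (tt N25 D25) (tt N18 F115) (tt N26 D26))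
theorem Q20 : ∀ i, i < 20 → P i := stepQ 19 Q19 (allL N19 (tt N15 F116) (tt N25 (iv F151)) (tt N19 F117) (tt N19 F118) (tt N19 F119) (tt N19 F120) (tt N14 (iv D19)) (tt N27 D27) (tt N28 D28))
theorem Q21 : ∀ i, i < 21 → P i := stepQ 20 Q20 (allL N20 (tt N16 F121) (tt N26 (iv F156)) (tt N20 F122) (tt N20 F123) (tt N20 F124) (tt N20 F125) (tt N28 (iv F171)) (tt N20 F126) (tt N14 (iv D20)))
theorem Q22 : ∀ i, i < 22 → P i := stepQ 21 Q21 (allL N21 (tt N27 (iv F161)) (tt N21 F127) (tt N21 F128) (tt N21 F129) (tt N21 F130) (tt N21 F131) (tt N21 F132) (tt N15 (iv D21)) (tt N29 D29))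
theorem Q23 : ∀ i, i < 23 → P i := stepQ 22 Q22 (allL N22 (tt N28 (iv F167)) (tt N22 F133) (tt N22 F134) (tt N22 F135) (tt N22 F136) (tt N30 D30) (tt N16 F137) (tt N29 (iv F177)) (tt N15 (iv D22)))
theorem Q24 : ∀ i, i < 24 → P i := stepQ 23 Q23 (allL N23 (tt N23 F138) (tt N23 F139) (tt N23 F140) (tt N17 (iv D23)) (tt N23 F141) (tt N31 D31) (tt N23 F142) (tt N23 F143) (tt N23 F144))
theorem Q25 : ∀ i, i < 25 → P i := stepQ 24 Q24 (allL N24 (tt N24 F145) (tt N24 F146) (tt N18 F147) (tt N31 (iv F186)) (tt N24 F148) (tt N17 (iv D24)) (tt N32 D32) (tt N24 F149) (tt N33 D33))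
theorem Q26 : ∀ i, i < 26 → P i := stepQ 25 Q25 (allL N25 (tt N25 F150) (tt N19 F151) (tt N32 (iv F190)) (tt N25 F152) (tt N25 F153) (tt N25 F154) (tt N18 (iv D25)) (tt N34 D34) (tt N35 D35))
theorem Q27 : ∀ i, i < 27 → P i := stepQ 26 Q26 (allL N26 (tt N26 F155) (tt N20 F156) (tt N33 (iv F195)) (tt N26 F157) (tt N26 F158) (tt N26 F159) (tt N35 (iv F209)) (tt N26 F160) (tt N18 (iv D26)))
theorem Q28 : ∀ i, i < 28 → P i := stepQ 27 Q27 (allL N27 (tt N21 F161) (tt N34 (iv F200)) (tt N27 F162) (tt N27 F163) (tt N27 F164) (tt N27 F165) (tt N27 F166) (tt N19 (iv D27)) (tt N36 D36))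
theorem Q29 : ∀ i, i < 29 → P i := stepQ 28 Q28 (allL N28 (tt N22 F167) (tt N35 (iv F206)) (tt N28 F168) (tt N28 F169) (tt N28 F170) (tt N37 D37) (tt N20 F171) (tt N36 (iv F215)) (tt N19 (iv D28)))
theorem Q30 : ∀ i, i < 30 → P i := stepQ 29 Q29 (allL N29 (tt N36 (iv F210)) (tt N29 F172) (tt N29 F173) (tt N29 F174) (tt N29 F175) (tt N38 D38) (tt N29 F176) (tt N22 F177) (tt N21 (iv D29)))
theorem Q31 : ∀ i, i < 31 → P i := stepQ 30 Q30 (allL N30 (tt N37 (iv F216)) (tt N30 F178) (tt N30 F179) (tt N30 F180) (tt N39 D39) (tt N22 (iv D30)) (tt N30 F181) (tt N38 (iv F224)) (tt N30 F182))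
theorem Q32 : ∀ i, i < 32 → P i := stepQ 31 Q31 (allL N31 (tt N31 F183) (tt N31 F184) (tt N31 F185) (tt N24 F186) (tt N40 D40) (tt N23 (iv D31)) (tt N41 D41) (tt N31 F187) (tt N42 D42))
theorem Q33 : ∀ i, i < 33 → P i := stepQ 32 Q32 (allL N32 (tt N32 F188) (tt N32 F189) (tt N25 F190) (tt N41 (iv F240)) (tt N32 F191) (tt N32 F192) (tt N24 (iv D32)) (tt N43 D43) (tt N44 D44))
theorem Q34 : ∀ i, i < 34 → P i := stepQ 33 Q33 (allL N33 (tt N33 F193) (tt N33 F194) (tt N26 F195) (tt N42 (iv F245)) (tt N33 F196) (tt N33 F197) (tt N44 (iv F258)) (tt N33 F198) (tt N24 (iv D33)))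
theorem Q35 : ∀ i, i < 35 → P i := stepQ 34 Q34 (allL N34 (tt N34 F199) (tt N27 F200) (tt N43 (iv F250)) (tt N34 F201) (tt N34 F202) (tt N34 F203) (tt N34 F204) (tt N25 (iv D34)) (tt N45 D45))
theorem Q36 : ∀ i, i < 36 → P i := stepQ 35 Q35 (allL N35 (tt N35 F205) (tt N28 F206) (tt N44 (iv F256)) (tt N35 F207) (tt N35 F208) (tt N46 D46) (tt N26 F209) (tt N45 (iv F264)) (tt N25 (iv D35)))
theorem Q37 : ∀ i, i < 37 → P i := stepQ 36 Q36 (allL N36 (tt N29 F210) (tt N45 (iv F260)) (tt N36 F211) (tt N36 F212) (tt N36 F213) (tt N47 D47) (tt N36 F214) (tt N28 F215) (tt N27 (iv D36)))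
theorem Q38 : ∀ i, i < 38 → P i := stepQ 37 Q37 (allL N37 (tt N30 F216) (tt N46 (iv F266)) (tt N37 F217) (tt N37 F218) (tt N48 D48) (tt N28 (iv D37)) (tt N37 F219) (tt N47 (iv F273)) (tt N37 F220))
theorem Q39 : ∀ i, i < 39 → P i := stepQ 38 Q38 (allL N38 (tt N47 (iv F270)) (tt N38 F221) (tt N38 F222) (tt N38 F223) (tt N49 D49) (tt N29 (iv D38)) (tt N50 D50) (tt N30 F224) (tt N38 F225))
theorem Q40 : ∀ i, i < 40 → P i := stepQ 39 Q39 (allL N39 (tt N48 (iv F275)) (tt N39 F226) (tt N39 F227) (tt N51 D51) (tt N30 (iv D39)) (tt N39 F228) (tt N39 F229) (tt N49 (iv F283)) (tt N39 F230))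
theorem Q41 : ∀ i, i < 41 → P i := stepQ 40 Q40 (allL N40 (tt N40 F231) (tt N40 F232) (tt N40 F233) (tt N40 F234) (tt N31 (iv D40)) (tt N40 F235) (tt N52 D52) (tt N40 F236) (tt N53 D53))
theorem Q42 : ∀ i, i < 42 → P i := stepQ 41 Q41 (allL N41 (tt N41 F237) (tt N41 F238) (tt N41 F239) (tt N32 F240) (tt N52 (iv F300)) (tt N41 F241) (tt N31 (iv D41)) (tt N54 D54) (tt N55 D55))
theorem Q43 : ∀ i, i < 43 → P i := stepQ 42 Q42 (allL N42 (tt N42 F242) (tt N42 F243) (tt N42 F244) (tt N33 F245) (tt N53 (iv F305)) (tt N42 F246) (tt N55 (iv F317)) (tt N42 F247) (tt N31 (iv D42)))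
theorem Q44 : ∀ i, i < 44 → P i := stepQ 43 Q43 (allL N43 (tt N43 F248) (tt N43 F249) (tt N34 F250) (tt N54 (iv F310)) (tt N43 F251) (tt N43 F252) (tt N43 F253) (tt N32 (iv D43)) (tt N56 D56))
theorem Q45 : ∀ i, i < 45 → P i := stepQ 44 Q44 (allL N44 (tt N44 F254) (tt N44 F255) (tt N35 F256) (tt N55 (iv F316)) (tt N44 F257) (tt N57 D57) (tt N33 F258) (tt N56 (iv F323)) (tt N32 (iv D44)))
theorem Q46 : ∀ i, i < 46 → P i := stepQ 45 Q45 (allL N45 (tt N45 F259) (tt N36 F260) (tt N56 (iv F320)) (tt N45 F261) (tt N45 F262) (tt N58 D58) (tt N45 F263) (tt N35 F264) (tt N34 (iv D45)))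
theorem Q47 : ∀ i, i < 47 → P i := stepQ 46 Q46 (allL N46 (tt N46 F265) (tt N37 F266) (tt N57 (iv F326)) (tt N46 F267) (tt N59 D59) (tt N35 (iv D46)) (tt N46 F268) (tt N58 (iv F332)) (tt N46 F269))
theorem Q48 : ∀ i, i < 48 → P i := stepQ 47 Q47 (allL N47 (tt N38 F270) (tt N58 (iv F330)) (tt N47 F271) (tt N47 F272) (tt N60 D60) (tt N36 (iv D47)) (tt N61 D61) (tt N37 F273) (tt N47 F274))
theorem Q49 : ∀ i, i < 49 → P i := stepQ 48 Q48 (allL N48 (tt N39 F275) (tt N59 (iv F335)) (tt N48 F276) (tt N62 D62) (tt N37 (iv D48)) (tt N48 F277) (tt N48 F278) (tt N60 (iv F342)) (tt N48 F279))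
theorem Q50 : ∀ i, i < 50 → P i := stepQ 49 Q49 (allL N49 (tt N60 (iv F339)) (tt N49 F280) (tt N49 F281) (tt N63 D63) (tt N38 (iv D49)) (tt N49 F282) (tt N64 D64) (tt N39 F283) (tt N49 F284))
theorem Q51 : ∀ i, i < 51 → P i := stepQ 50 Q50 (allL N50 (tt N61 (iv F344)) (tt N50 F285) (tt N50 F286) (tt N50 F287) (tt N64 (iv F362)) (tt N50 F288) (tt N38 (iv D50)) (tt N50 F289) (tt N50 F290))
theorem Q52 : ∀ i, i < 52 → P i := stepQ 51 Q51 (allL N51 (tt N62 (iv F350)) (tt N51 F291) (tt N65 D65) (tt N39 (iv D51)) (tt N51 F292) (tt N51 F293) (tt N51 F294) (tt N63 (iv F358)) (tt N51 F295))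
theorem Q53 : ∀ i, i < 53 → P i := stepQ 52 Q52 (allL N52 (tt N52 F296) (tt N52 F297) (tt N52 F298) (tt N52 F299) (tt N41 F300) (tt N66 D66) (tt N40 (iv D52)) (tt N67 D67) (tt N68 D68))
theorem Q54 : ∀ i, i < 54 → P i := stepQ 53 Q53 (allL N53 (tt N53 F301) (tt N53 F302) (tt N53 F303) (tt N53 F304) (tt N42 F305) (tt N69 D69) (tt N68 (iv F387)) (tt N53 F306) (tt N40 (iv D53)))
theorem Q55 : ∀ i, i < 55 → P i := stepQ 54 Q54 (allL N54 (tt N54 F307) (tt N54 F308) (tt N54 F309) (tt N43 F310) (tt N67 (iv F380)) (tt N54 F311) (tt N54 F312) (tt N41 (iv D54)) (tt N70 D70))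
theorem Q56 : ∀ i, i < 56 → P i := stepQ 55 Q55 (allL N55 (tt N55 F313) (tt N55 F314) (tt N55 F315) (tt N44 F316) (tt N68 (iv F386)) (tt N71 D71) (tt N42 F317) (tt N70 (iv F400)) (tt N41 (iv D55)))
theorem Q57 : ∀ i, i < 57 → P i := stepQ 56 Q56 (allL N56 (tt N56 F318) (tt N56 F319) (tt N45 F320) (tt N70 (iv F398)) (tt N56 F321) (tt N72 D72) (tt N56 F322) (tt N44 F323) (tt N43 (iv D56)))
theorem Q58 : ∀ i, i < 58 → P i := stepQ 57 Q57 (allL N57 (tt N57 F324) (tt N57 F325) (tt N46 F326) (tt N71 (iv F404)) (tt N73 D73) (tt N44 (iv D57)) (tt N57 F327) (tt N72 (iv F410)) (tt N57 F328))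
theorem Q59 : ∀ i, i < 59 → P i := stepQ 58 Q58 (allL N58 (tt N58 F329) (tt N47 F330) (tt N72 (iv F409)) (tt N58 F331) (tt N74 D74) (tt N45 (iv D58)) (tt N75 D75) (tt N46 F332) (tt N58 F333))
theorem Q60 : ∀ i, i < 60 → P i := stepQ 59 Q59 (allL N59 (tt N59 F334) (tt N48 F335) (tt N73 (iv F414)) (tt N76 D76) (tt N46 (iv D59)) (tt N59 F336) (tt N59 F337) (tt N74 (iv F421)) (tt N59 F338))
theorem Q61 : ∀ i, i < 61 → P i := stepQ 60 Q60 (allL N60 (tt N49 F339) (tt N74 (iv F419)) (tt N60 F340) (tt N77 D77) (tt N47 (iv D60)) (tt N60 F341) (tt N78 D78) (tt N48 F342) (tt N60 F343))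
theorem Q62 : ∀ i, i < 62 → P i := stepQ 61 Q61 (allL N61 (tt N50 F344) (tt N75 (iv F424)) (tt N61 F345) (tt N61 F346) (tt N78 (iv F442)) (tt N61 F347) (tt N47 (iv D61)) (tt N61 F348) (tt N61 F349))
theorem Q63 : ∀ i, i < 63 → P i := stepQ 62 Q62 (allL N62 (tt N51 F350) (tt N76 (iv F430)) (tt N79 D79) (tt N48 (iv D62)) (tt N62 F351) (tt N62 F352) (tt N62 F353) (tt N77 (iv F438)) (tt N62 F354))
theorem Q64 : ∀ i, i < 64 → P i := stepQ 63 Q63 (allL N63 (tt N77 (iv F435)) (tt N63 F355) (tt N80 D80) (tt N49 (iv D63)) (tt N63 F356) (tt N63 F357) (tt N81 D81) (tt N51 F358) (tt N63 F359))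
theorem Q65 : ∀ i, i < 65 → P i := stepQ 64 Q64 (allL N64 (tt N78 (iv F440)) (tt N64 F360) (tt N64 F361) (tt N81 (iv F457)) (tt N50 F362) (tt N82 D82) (tt N49 (iv D64)) (tt N64 F363) (tt N64 F364))
theorem Q66 : ∀ i, i < 66 → P i := stepQ 65 Q65 (allL N65 (tt N79 (iv F445)) (tt N83 D83) (tt N51 (iv D65)) (tt N65 F365) (tt N65 F366) (tt N65 F367) (tt N65 F368) (tt N80 (iv F454)) (tt N65 F369))
theorem Q67 : ∀ i, i < 67 → P i := stepQ 66 Q66 (allL N66 (tt N66 F370) (tt N66 F371) (tt N66 F372) (tt N66 F373) (tt N66 F374) (tt N52 (iv D66)) (tt N66 F375) (tt N84 D84) (tt N66 F889))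
theorem Q68 : ∀ i, i < 68 → P i := stepQ 67 Q67 (allL N67 (tt N67 F376) (tt N67 F377) (tt N67 F378) (tt N67 F379) (tt N54 F380) (tt N84 (iv F477)) (tt N67 F381) (tt N52 (iv D67)) (tt N85 D86))
theorem Q69 : ∀ i, i < 69 → P i := stepQ 68 Q68 (allL N68 (tt N68 F382) (tt N68 F383) (tt N68 F384) (tt N68 F385) (tt N55 F386) (tt N68 F886) (tt N53 F387) (tt N85 (iv F490)) (tt N52 (iv D68)))
theorem Q70 : ∀ i, i < 70 → P i := stepQ 69 Q69 (allL N69 (tt N69 F388) (tt N69 F389) (tt N69 F390) (tt N69 F391) (tt N69 F392) (tt N53 (iv D69)) (tt N69 F888) (tt N69 F393) (tt N69 F394))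
theorem Q71 : ∀ i, i < 71 → P i := stepQ 70 Q70 (allL N70 (tt N70 F395) (tt N70 F396) (tt N70 F397) (tt N56 F398) (tt N85 (iv F488)) (tt N86 D89) (tt N70 F399) (tt N55 F400) (tt N54 (iv D70)))
theorem Q72 : ∀ i, i < 72 → P i := stepQ 71 Q71 (allL N71 (tt N71 F401) (tt N71 F402) (tt N71 F403) (tt N57 F404) (tt N71 F884) (tt N55 (iv D71)) (tt N71 F405) (tt N86 (iv F505)) (tt N71 F406))
theorem Q73 : ∀ i, i < 73 → P i := stepQ 72 Q72 (allL N72 (tt N72 F407) (tt N72 F408) (tt N58 F409) (tt N86 (iv F504)) (tt N87 D91) (tt N56 (iv D72)) (tt N88 D92) (tt N57 F410) (tt N72 F411))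
theorem Q74 : ∀ i, i < 74 → P i := stepQ 73 Q73 (allL N73 (tt N73 F412) (tt N73 F413) (tt N59 F414) (tt N73 F881) (tt N57 (iv D73)) (tt N73 F415) (tt N73 F416) (tt N87 (iv F516)) (tt N73 F417))
theorem Q75 : ∀ i, i < 75 → P i := stepQ 74 Q74 (allL N74 (tt N74 F418) (tt N60 F419) (tt N87 (iv F514)) (tt N89 D94) (tt N58 (iv D74)) (tt N74 F420) (tt N90 D95) (tt N59 F421) (tt N74 F422))
theorem Q76 : ∀ i, i < 76 → P i := stepQ 75 Q75 (allL N75 (tt N75 F423) (tt N61 F424) (tt N88 (iv F520)) (tt N75 F425) (tt N90 (iv F537)) (tt N75 F426) (tt N58 (iv D75)) (tt N75 F427) (tt N75 F428))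
theorem Q77 : ∀ i, i < 77 → P i := stepQ 76 Q76 (allL N76 (tt N76 F429) (tt N62 F430) (tt N76 F878) (tt N59 (iv D76)) (tt N76 F431) (tt N76 F432) (tt N76 F433) (tt N89 (iv F533)) (tt N76 F434))
theorem Q78 : ∀ i, i < 78 → P i := stepQ 77 Q77 (allL N77 (tt N63 F435) (tt N89 (iv F530)) (tt N91 D97) (tt N60 (iv D77)) (tt N77 F436) (tt N77 F437) (tt N92 D98) (tt N62 F438) (tt N77 F439))
theorem Q79 : ∀ i, i < 79 → P i := stepQ 78 Q78 (allL N78 (tt N64 F440) (tt N90 (iv F536)) (tt N78 F441) (tt N92 (iv F552)) (tt N61 F442) (tt N93 D99) (tt N60 (iv D78)) (tt N78 F443) (tt N78 F444))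
theorem Q80 : ∀ i, i < 80 → P i := stepQ 79 Q79 (allL N79 (tt N65 F445) (tt N79 F873) (tt N62 (iv D79)) (tt N79 F446) (tt N79 F447) (tt N79 F448) (tt N79 F449) (tt N91 (iv F549)) (tt N79 F450))
theorem Q81 : ∀ i, i < 81 → P i := stepQ 80 Q80 (allL N80 (tt N91 (iv F545)) (tt N94 D101) (tt N63 (iv D80)) (tt N80 F451) (tt N80 F452) (tt N80 F453) (tt N95 D102) (tt N65 F454) (tt N80 F455))
theorem Q82 : ∀ i, i < 82 → P i := stepQ 81 Q81 (allL N81 (tt N92 (iv F551)) (tt N81 F456) (tt N95 (iv F572)) (tt N64 F457) (tt N81 F458) (tt N96 D103) (tt N63 (iv D81)) (tt N81 F459) (tt N81 F460))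
theorem Q83 : ∀ i, i < 83 → P i := stepQ 82 Q82 (allL N82 (tt N93 (iv F556)) (tt N82 F461) (tt N82 F462) (tt N96 (iv F578)) (tt N82 F463) (tt N64 (iv D82)) (tt N82 F464) (tt N82 F465) (tt N97 D104))
theorem Q84 : ∀ i, i < 84 → P i := stepQ 83 Q83 (allL N83 (tt N83 F876) (tt N65 (iv D83)) (tt N83 F466) (tt N83 F467) (tt N83 F468) (tt N83 F469) (tt N83 F470) (tt N94 (iv F570)) (tt N83 F471))
theorem Q85 : ∀ i, i < 85 → P i := stepQ 84 Q84 (allL N84 (tt N84 F472) (tt N84 F473) (tt N84 F474) (tt N84 F475) (tt N84 F476) (tt N67 F477) (tt N98 D106) (tt N66 (iv D84)) (tt N84 F887))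
theorem Q86 : ∀ i, i < 86 → P i := stepQ 85 Q85 (allL N85 (tt N85 F484) (tt N85 F485) (tt N85 F486) (tt N85 F487) (tt N70 F488) (tt N85 F885) (tt N85 F489) (tt N68 F490) (tt N67 (iv D86)))
theorem Q87 : ∀ i, i < 87 → P i := stepQ 86 Q86 (allL N86 (tt N86 F501) (tt N86 F502) (tt N86 F503) (tt N72 F504) (tt N86 F882) (tt N70 (iv D89)) (tt N99 D114) (tt N71 F505) (tt N86 F506))
theorem Q88 : ∀ i, i < 88 → P i := stepQ 87 Q87 (allL N87 (tt N87 F512) (tt N87 F513) (tt N74 F514) (tt N87 F879) (tt N72 (iv D91)) (tt N87 F515) (tt N100 D117) (tt N73 F516) (tt N87 F517))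
theorem Q89 : ∀ i, i < 89 → P i := stepQ 88 Q88 (allL N88 (tt N88 F518) (tt N88 F519) (tt N75 F520) (tt N99 (iv F640)) (tt N100 (iv F657)) (tt N88 F521) (tt N72 (iv D92)) (tt N88 F522) (tt N88 F523))
theorem Q90 : ∀ i, i < 90 → P i := stepQ 89 Q89 (allL N89 (tt N89 F529) (tt N77 F530) (tt N89 F875) (tt N74 (iv D94)) (tt N89 F531) (tt N89 F532) (tt N101 D120) (tt N76 F533) (tt N89 F534))
theorem Q91 : ∀ i, i < 91 → P i := stepQ 90 Q90 (allL N90 (tt N90 F535) (tt N78 F536) (tt N100 (iv F656)) (tt N101 (iv F672)) (tt N75 F537) (tt N102 D121) (tt N74 (iv D95)) (tt N90 F538) (tt N90 F539))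
theorem Q92 : ∀ i, i < 92 → P i := stepQ 91 Q91 (allL N91 (tt N80 F545) (tt N91 F872) (tt N77 (iv D97)) (tt N91 F546) (tt N91 F547) (tt N91 F548) (tt N103 D124) (tt N79 F549) (tt N91 F550))
theorem Q93 : ∀ i, i < 93 → P i := stepQ 92 Q92 (allL N92 (tt N81 F551) (tt N101 (iv F671)) (tt N103 (iv F692)) (tt N78 F552) (tt N92 F553) (tt N104 D125) (tt N77 (iv D98)) (tt N92 F554) (tt N92 F555))
theorem Q94 : ∀ i, i < 94 → P i := stepQ 93 Q93 (allL N93 (tt N82 F556) (tt N102 (iv F677)) (tt N93 F557) (tt N104 (iv F698)) (tt N93 F558) (tt N78 (iv D99)) (tt N93 F559) (tt N93 F560) (tt N105 D126))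
theorem Q95 : ∀ i, i < 95 → P i := stepQ 94 Q94 (allL N94 (tt N94 F874) (tt N80 (iv D101)) (tt N94 F566) (tt N94 F567) (tt N94 F568) (tt N94 F569) (tt N106 D129) (tt N83 F570) (tt N94 F571))
theorem Q96 : ∀ i, i < 96 → P i := stepQ 95 Q95 (allL N95 (tt N103 (iv F691)) (tt N106 (iv F719)) (tt N81 F572) (tt N95 F573) (tt N95 F574) (tt N107 D130) (tt N80 (iv D102)) (tt N95 F575) (tt N95 F576))
theorem Q97 : ∀ i, i < 97 → P i := stepQ 96 Q96 (allL N96 (tt N104 (iv F697)) (tt N96 F577) (tt N107 (iv F725)) (tt N82 F578) (tt N108 D131) (tt N81 (iv D103)) (tt N96 F579) (tt N96 F580) (tt N109 D132))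
theorem Q98 : ∀ i, i < 98 → P i := stepQ 97 Q97 (allL N97 (tt N105 (iv F701)) (tt N97 F581) (tt N97 F582) (tt N109 (iv F735)) (tt N97 F583) (tt N97 F584) (tt N97 F585) (tt N97 F586) (tt N82 (iv D104)))
theorem Q99 : ∀ i, i < 99 → P i := stepQ 98 Q98 (allL N98 (tt N98 F593) (tt N98 F594) (tt N98 F595) (tt N98 F596) (tt N98 F597) (tt N98 F598) (tt N84 (iv D106)) (tt N98 F599) (tt N98 F890))
theorem Q100 : ∀ i, i < 100 → P i := stepQ 99 Q99 (allL N99 (tt N99 F637) (tt N99 F638) (tt N99 F639) (tt N88 F640) (tt N99 F883) (tt N99 F641) (tt N86 (iv D114)) (tt N99 F642) (tt N99 F643))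
theorem Q101 : ∀ i, i < 101 → P i := stepQ 100 Q100 (allL N100 (tt N100 F654) (tt N100 F655) (tt N90 F656) (tt N100 F880) (tt N88 F657) (tt N110 D147) (tt N87 (iv D117)) (tt N100 F658) (tt N100 F659))
theorem Q102 : ∀ i, i < 102 → P i := stepQ 101 Q101 (allL N101 (tt N101 F670) (tt N92 F671) (tt N101 F877) (tt N90 F672) (tt N101 F673) (tt N111 D151) (tt N89 (iv D120)) (tt N101 F674) (tt N101 F675))
theorem Q103 : ∀ i, i < 103 → P i := stepQ 102 Q102 (allL N102 (tt N102 F676) (tt N93 F677) (tt N110 (iv F815)) (tt N111 (iv F836)) (tt N102 F678) (tt N90 (iv D121)) (tt N102 F679) (tt N102 F680) (tt N112 D152))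
theorem Q104 : ∀ i, i < 104 → P i := stepQ 103 Q103 (allL N103 (tt N95 F691) (tt N103 F871) (tt N92 F692) (tt N103 F693) (tt N103 F694) (tt N113 D156) (tt N91 (iv D124)) (tt N103 F695) (tt N103 F696))
theorem Q105 : ∀ i, i < 105 → P i := stepQ 104 Q104 (allL N104 (tt N96 F697) (tt N111 (iv F835)) (tt N113 (iv F863)) (tt N93 F698) (tt N114 D157) (tt N92 (iv D125)) (tt N104 F699) (tt N104 F700) (tt N115 D158))
theorem Q106 : ∀ i, i < 106 → P i := stepQ 105 Q105 (allL N105 (tt N97 F701) (tt N112 (iv F840)) (tt N105 F702) (tt N115 (iv F902)) (tt N105 F703) (tt N105 F704) (tt N105 F705) (tt N105 F706) (tt N93 (iv D126)))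
theorem Q107 : ∀ i, i < 107 → P i := stepQ 106 Q106 (allL N106 (tt N106 F892) (tt N95 F719) (tt N106 F720) (tt N106 F721) (tt N106 F722) (tt N116 D159) (tt N94 (iv D129)) (tt N106 F723) (tt N106 F724))
theorem Q108 : ∀ i, i < 108 → P i := stepQ 107 Q107 (allL N107 (tt N113 (iv F862)) (tt N116 (iv F908)) (tt N96 F725) (tt N107 F726) (tt N115 (iv F903)) (tt N95 (iv D130)) (tt N107 F727) (tt N107 F728) (tt N114 F899))
theorem Q109 : ∀ i, i < 109 → P i := stepQ 108 Q108 (allL N108 (tt N114 (iv F893)) (tt N108 F729) (tt N115 (iv F901)) (tt N108 F730) (tt N96 (iv D131)) (tt N108 F731) (tt N108 F732) (tt N108 F733) (tt N113 (iv F869)))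
theorem Q110 : ∀ i, i < 110 → P i := stepQ 109 Q109 (allL N109 (tt N115 (iv F900)) (tt N109 F734) (tt N114 (iv F894)) (tt N97 F735) (tt N113 F867) (tt N109 F736) (tt N109 F737) (tt N109 F738) (tt N96 (iv D132)))
theorem Q111 : ∀ i, i < 111 → P i := stepQ 110 Q110 (allL N110 (tt N110 F813) (tt N110 F814) (tt N102 F815) (tt N110 F891) (tt N110 F816) (tt N100 (iv D147)) (tt N110 F817) (tt N110 F818) (tt N117 D160))
theorem Q112 : ∀ i, i < 112 → P i := stepQ 111 Q111 (allL N111 (tt N111 F834) (tt N104 F835) (tt N111 F870) (tt N102 F836) (tt N118 D161) (tt N101 (iv D151)) (tt N111 F837) (tt N111 F838) (tt N119 D162))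
theorem Q113 : ∀ i, i < 113 → P i := stepQ 112 Q112 (allL N112 (tt N112 F839) (tt N105 F840) (tt N117 (iv F915)) (tt N119 (iv F932)) (tt N112 F841) (tt N112 F842) (tt N112 F843) (tt N112 F844) (tt N102 (iv D152)))
theorem Q114 : ∀ i, i < 114 → P i := stepQ 113 Q113 (allL N113 (tt N107 F862) (tt N113 F868) (tt N104 F863) (tt N113 F864) (tt N109 (iv F867)) (tt N103 (iv D156)) (tt N113 F865) (tt N113 F866) (tt N108 F869))
theorem Q115 : ∀ i, i < 115 → P i := stepQ 114 Q114 (allL N114 (tt N108 F893) (tt N118 (iv F922)) (tt N109 F894) (tt N114 F895) (tt N104 (iv D157)) (tt N114 F896) (tt N114 F897) (tt N114 F898) (tt N107 (iv F899)))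
theorem Q116 : ∀ i, i < 116 → P i := stepQ 115 Q115 (allL N115 (tt N109 F900) (tt N119 (iv F930)) (tt N108 F901) (tt N105 F902) (tt N107 F903) (tt N115 F904) (tt N115 F905) (tt N115 F906) (tt N104 (iv D158)))
theorem Q117 : ∀ i, i < 117 → P i := stepQ 116 Q116 (allL N116 (tt N116 F907) (tt N107 F908) (tt N116 F909) (tt N116 F910) (tt N119 (iv F933)) (tt N106 (iv D159)) (tt N116 F911) (tt N116 F912) (tt N118 F928))
theorem Q118 : ∀ i, i < 118 → P i := stepQ 117 Q117 (allL N117 (tt N117 F913) (tt N117 F914) (tt N112 F915) (tt N117 F916) (tt N117 F917) (tt N117 F918) (tt N117 F919) (tt N117 F920) (tt N110 (iv D160)))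
theorem Q119 : ∀ i, i < 119 → P i := stepQ 118 Q118 (allL N118 (tt N118 F921) (tt N114 F922) (tt N118 F923) (tt N118 F924) (tt N111 (iv D161)) (tt N118 F925) (tt N118 F926) (tt N118 F927) (tt N116 (iv F928)))
theorem Q120 : ∀ i, i < 120 → P i := stepQ 119 Q119 (allL N119 (tt N119 F929) (tt N115 F930) (tt N119 F931) (tt N112 F932) (tt N116 F933) (tt N119 F934) (tt N119 F935) (tt N119 F936) (tt N111 (iv D162)))

theorem closedN : ∀ i, i < N → P i := Q120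

end Cfsg.Agent.Helper17.E8hTC
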